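import Groth.Agent.Lib.PAlg7.Cpl
import Groth.Agent.Lib.DerComp.Kos
import Groth.Agent.Lib.FormalExist7.Levels
import Groth.Agent.Lib.DCxRing.KoszulCone

/-!
# Objects killed by powers of the ideal of the base are torsion, and the completion is bijective into them
-/

set_option autoImplicit false
set_option linter.style.haveILetI false
set_option linter.unusedSectionVars false
set_option backward.isDefEq.respectTransparency false
universe w w' v v' u u'

open CategoryTheory CategoryTheory.Limits AlgebraicGeometry TopologicalSpace Opposite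

noncomputable section

namespace GrothLib.PAlg7

section Unit

variable {A : Type u} [Category.{v} A] [Abelian A] [HasDerivedCategory.{w} A]
  {B : Type u'} [Category.{v'} B] [Abelian B] [HasDerivedCategory.{w'} B]
  {L : B ⥤ A} {R : A ⥤ B} [L.Additive] [R.Additive]
  [PreservesFiniteLimits L] [PreservesFiniteColimits L] [PreservesFiniteLimits R] [PreservesFiniteColimits R]
  (adj : L ⊣ R)

/-- The unit is invertible on complexes on whose cohomology it is invertible. -/
theorem isIso_unit_mapDerivedAdj (X : DerivedCategory B)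
    (hX : ∀ i : ℤ, IsIso (adj.unit.app ((DerivedCategory.homologyFunctor B i).obj X))) :
    IsIso ((DerCat.mapDerivedAdj adj).unit.app X) := by
  obtain ⟨K, ⟨e⟩⟩ : ∃ K, Nonempty (DerivedCategory.Q.obj K ≅ X) :=
    ⟨DerivedCategory.Q.objPreimage X, ⟨DerivedCategory.Q.objObjPreimageIso X⟩⟩
  rw [← NatTrans.isIso_app_iff_of_iso (DerCat.mapDerivedAdj adj).unit e]
  have hK : ∀ i : ℤ, IsIso (adj.unit.app (K.sc i).homology) := fun i =>
    (NatTrans.isIso_app_iff_of_iso adj.unit
      ((DerivedCategory.homologyFunctor B i).mapIso e.symm ≪≫ (DerivedCategory.homologyFunctorFactors B i).app K)).1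
      (hX i)
  have hq : QuasiIso ((KInj.mapComplexAdj adj (ComplexShape.up ℤ)).unit.app K) := by
    refine ⟨fun i => ?_⟩
    rw [quasiIsoAt_iff, ShortComplex.quasiIso_iff]
    have h1 := NatTrans.app_homology adj.unit (K.sc i)
    haveI := hK i
    have h2 : ShortComplex.homologyMap ((K.sc i).mapNatTrans adj.unit) =
        ((K.sc i).mapHomologyIso (𝟭 B)).hom ≫ adj.unit.app (K.sc i).homology ≫
          ((K.sc i).mapHomologyIso (L ⋙ R)).inv := by
      rw [h1]
      simp
    show IsIso (ShortComplex.homologyMap ((K.sc i).mapNatTrans adj.unit))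
    rw [h2]
    infer_instance
  letI : CatCommSq (L.mapHomologicalComplex (ComplexShape.up ℤ)) DerivedCategory.Q DerivedCategory.Q
      L.mapDerivedCategory := ⟨L.mapDerivedCategoryFactors.symm⟩
  letI : CatCommSq (R.mapHomologicalComplex (ComplexShape.up ℤ)) DerivedCategory.Q DerivedCategory.Q
      R.mapDerivedCategory := ⟨R.mapDerivedCategoryFactors.symm⟩
  rw [show (DerCat.mapDerivedAdj adj).unit.app (DerivedCategory.Q.obj K) = _ from
    Adjunction.localization_unit_app _ _ _ _ _ _ _ K]
  have : IsIso (DerivedCategory.Q.map ((KInj.mapComplexAdj adj (ComplexShape.up ℤ)).unit.app K)) :=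
    Localization.inverts DerivedCategory.Q (HomologicalComplex.quasiIso B (ComplexShape.up ℤ)) _ hq
  infer_instance

end Unit

end GrothLib.PAlg7

attribute [local instance] HasDerivedCategory.standard

namespace GrothLib.PAlg7

variable {A : Type u} [CommRing A] [IsNoetherianRing A] (I : Ideal A) {X : Scheme.{u}}
  [X.Over (Spec (CommRingCat.of A))]

/-- An object killed by powers of generators of the ideal of the base has torsion cohomology. -/
theorem isDTorsZp_of_nil (g : Finset A) (hg : Ideal.span (g : Set A) = I) (Z : DerivedCategory (ModSite.Mod X.sheaf))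
    (hZ : DerComp.Nil (g.toList.map (DerComp.baseSec A X)) Z) : FTors.IsDTorsZp X (FFormal7.baseIdeal I X) Z := by
  intro i
  let M := SiteCmp.HMod Z i
  let Ann : Ideal A :=
    { carrier := {a | DerComp.baseSec A X a • 𝟙 M = 0}
      zero_mem' := by simp
      add_mem' := fun {a b} ha hb => by
        simp only [Set.mem_ofPred_eq] at ha hb ⊢
        rw [map_add, add_smul, ha, hb, add_zero]
      smul_mem' := fun c a ha => by
        simp only [Set.mem_ofPred_eq] at ha ⊢
        rw [smul_eq_mul, map_mul, mul_smul, ha, smul_zero] }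
  have hIA : I ≤ Ann.radical := hg ▸ Ideal.span_le.2 fun a ha => by
    obtain ⟨k, hk⟩ := hZ _ (List.mem_map.2 ⟨a, Finset.mem_toList.2 ha, rfl⟩)
    refine ⟨k, ?_⟩
    show DerComp.baseSec A X (a ^ k) • 𝟙 M = 0
    rw [map_pow]
    exact (DR.homologyFunctor_map_smul_id _ Z i).symm.trans ((congrArg _ hk).trans (Functor.map_zero _ _ _))
  obtain ⟨N, hN⟩ := Ann.exists_radical_pow_le_of_fg (IsNoetherian.noetherian _)
  have hIN : I ^ N ≤ Ann := (Ideal.pow_right_mono hIA N).trans hN
  intro U x
  refine FTors.IsTorsSect.of_killedBy (n := N) fun W g a ha => ?_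
  refine FMod7.sect_ext (T := X.toTopCat) M _ _ fun y hy => ?_
  obtain ⟨V, hV, hyV, hVW⟩ := exists_isAffineOpen_mem_and_subset (x := y) (U := W) hy
  refine ⟨V, hVW, hyV, ?_⟩
  let j : V ⟶ W := homOfLE hVW
  show FTors.res M j (a • FTors.res M g x) = FTors.res M j 0
  rw [FTors.res_smul, show FTors.res M j (0 : ModSite.sect M W) = 0 from map_zero (M.val.map j.op).hom]
  have ha' := (FTors.mem_powIdealFam_iff X _ N W a).1 ha ⟨V, hV⟩ hVW
  rw [show (FFormal7.baseIdeal I X).ideal ⟨V, hV⟩ = I.map (FormalFun.toSec A V) from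
    FormalExist7.ideal_baseIdeal I ⟨V, hV⟩, ← Ideal.map_pow] at ha'
  let φ := FormalFun.toSec (X := X) A V
  let m : ModSite.sect M V := FTors.res M j (FTors.res M g x)
  change (show X.sheaf.obj.obj (op V) from (X.sheaf.obj.map j.op).hom a) • m = 0
  have key : ∀ c ∈ (I ^ N).map φ, (show X.sheaf.obj.obj (op V) from c) • m = 0 := fun c hc => by
    rw [Ideal.map] at hc
    induction hc using Submodule.span_induction with
    | mem b hb =>
      obtain ⟨d, hd, rfl⟩ := hb
      have e : DerComp.baseSec A X d • 𝟙 M = 0 := hIN hd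
      rw [_root_.DerComp.smul_def, Category.comp_id] at e
      exact (congrArg (fun q => q • m) (DerComp.baseSec_val A X d V)).symm.trans
        ((_root_.DerComp.smulEnd_apply (DerComp.baseSec A X d) M (op V) m).symm.trans
          (congrArg (fun q : M ⟶ M => (q.val.app (op V)).hom m) e))
    | zero => exact zero_smul _ m
    | add p q _ _ hp hq =>
      exact (add_smul (show X.sheaf.obj.obj (op V) from p) (show X.sheaf.obj.obj (op V) from q) m).trans
        ((congrArg₂ (· + ·) hp hq).trans (add_zero _))
    | smul r p _ hp =>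
      exact (mul_smul (show X.sheaf.obj.obj (op V) from r) (show X.sheaf.obj.obj (op V) from p) m).trans
        ((congrArg _ hp).trans (smul_zero _))
  exact key _ ha'

end GrothLib.PAlg7
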