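import Groth.Agent.Lib.RpushD7.CoprodPush
import Groth.Agent.Lib.RpushD7.Global

/-!
# Generators at affine opens on complexes with ind-coherent cohomology
-/

set_option autoImplicit false
set_option linter.style.haveILetI false
set_option linter.unusedSectionVars false
set_option maxHeartbeats 800000
universe u

open CategoryTheory CategoryTheory.Limits AlgebraicGeometry TopologicalSpace Opposite Pretriangulated

attribute [local instance] HasDerivedCategory.standard
attribute [local instance] Classical.decEq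

noncomputable section

namespace GrothLib.PAlg7

open GrothLib.SiteDer GrothLib.RpushD7
open GrothLib.TriCat (FinHom homSum_of)

/-- Finite decompositions lift along a map of families which is bijective on maps. -/
theorem finHom_of_map {D : Type*} [Category D] [Preadditive D] {ι : Type*} (K L : ι → D)
    [HasCoproduct K] [HasCoproduct L] (π : ∀ i, K i ⟶ L i) (p : (∐ K) ⟶ ∐ L)
    (hp : ∀ i, Sigma.ι K i ≫ p = π i ≫ Sigma.ι L i) {P : D} (hinj : Function.Injective fun φ : P ⟶ ∐ K => φ ≫ p)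
    (hsurj : ∀ i, Function.Surjective fun φ : P ⟶ K i => φ ≫ π i) (hL : FinHom L P) : FinHom K P := by
  intro φ
  obtain ⟨c, hc⟩ := hL (φ ≫ p)
  suffices hall : ∀ c, ∃ d, PerfAux.homSumToHomCoprod P K d ≫ p = PerfAux.homSumToHomCoprod P L c by
    obtain ⟨d, hd⟩ := hall c
    exact ⟨d, hinj (hd.trans hc)⟩
  intro c
  induction c using DirectSum.induction_on with
  | zero => exact ⟨0, by rw [map_zero, map_zero, zero_comp]⟩
  | of k x =>
    obtain ⟨y, hy⟩ := hsurj k x
    change y ≫ π k = x at hy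
    refine ⟨DirectSum.of (fun i => P ⟶ K i) k y, ?_⟩
    rw [homSum_of, homSum_of, Category.assoc, hp, ← Category.assoc, hy]
  | add c c' ih ih' =>
    obtain ⟨d, hd⟩ := ih
    obtain ⟨d', hd'⟩ := ih'
    exact ⟨d + d', by rw [map_add, map_add, Preadditive.add_comp, hd, hd']⟩

variable {𝔛 : FSch.Sys.{u}} {h : 𝔛.IsFormal}

/-- Complexes with ind-coherent cohomology. -/
abbrev IndD (G : DerivedCategory (FSch.ModF 𝔛 h)) : Prop :=
  ∀ i : ℤ, (ObjectProperty.ind.{u} fun M : FSch.ModF 𝔛 h => FSch.IsCohF 𝔛 h M) (SiteCmp.HMod G i)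

/-- The generator at an open, in degree `j`. -/
abbrev gen (W : (𝔛.X 0).Opens) (j : ℤ) : DerivedCategory (FSch.ModF 𝔛 h) :=
  (DerivedCategory.singleFunctor (FSch.ModF 𝔛 h) j).obj ((freeMod (𝔛.Osh h)).obj W)

variable (hN : 𝔛.IsLocNoethFormal) [CompactSpace (𝔛.X 0)]
include hN

/-- Maps out of the generator at an affine open see only a truncation. -/
theorem bijective_trunc {W : (𝔛.X 0).Opens} (hW : IsAffineOpen W) (G : DerivedCategory (FSch.ModF 𝔛 h))
    (hG : IndD G) (j : ℤ) (n : ℕ) (hn : ((0 : ℤ) - j + 1).toNat + (-j).toNat + 2 ≤ n) :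
    Function.Bijective (fun φ : gen (h := h) W j ⟶ G =>
      φ ≫ (DerivedCategory.TStructure.t.truncGEπ (-(n : ℤ))).app G) := by
  haveI := FCat7.noetherianSpace_X0 hN
  haveI : IsGrothendieckAbelian.{u} (FSch.ModF 𝔛 h) := KInj.isGrothendieckAbelian_sheafOfModules _
  have := HoCat.derivedCategory_hasLimitsOfShape (A := FSch.ModF 𝔛 h) ℕ
  let P := ObjectProperty.ind.{u} fun M : FSch.ModF 𝔛 h => FSch.IsCohF 𝔛 h M
  have hA : Acyc P := acyc_ind (h := h) hN
  have hbas : ∀ (U : Opens (𝔛.X 0)) (y : 𝔛.X 0), y ∈ U → ∃ V ∈ {W : Opens (𝔛.X 0) | IsAffineOpen W}, y ∈ V ∧ V ≤ U :=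
    fun U y hy => by
      obtain ⟨W, hW, hyW, hWU⟩ := exists_isAffineOpen_mem_and_subset (x := y) (U := U) hy
      exact ⟨W, hW, hyW, hWU⟩
  have good : ∀ (V : Opens (𝔛.X 0)), IsAffineOpen V → ∀ j : ℤ,
      GoodAt (K := fun n : ℕ => (DerivedCategory.TStructure.t.truncGE (-(n : ℤ))).obj G)
        (fun n => (DerivedCategory.TStructure.t.natTransTruncGEOfLE (-((n + 1 : ℕ) : ℤ)) (-(n : ℤ))
          (by omega)).app G) (freeMod (𝔛.Osh h)) j (((0 : ℤ) - j + 1).toNat + (-j).toNat + 2) V := by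
    intro V hV j'
    refine goodAt_of_homology j' _ _ fun m hm => ?_
    obtain ⟨Z, a, c, hZT, hZ, hz, ⟨e⟩⟩ := exists_cone_truncMap G m
    refine ⟨Z, a, c, _, hZT, hZ, fun k q hk hqk ψ => ?_⟩
    by_cases hq : q = -(m : ℤ) - 2
    · subst hq
      have hk' : j' - 1 ≤ k := by rcases hk with rfl | rfl <;> omega
      obtain ⟨M, hM⟩ : ∃ M : ℕ, (M : ℤ) + 1 = k + m + 2 := ⟨(k + m + 1).toNat, by omega⟩
      exact eq_zero_of_subsingleton_HU _ _ k _ (M + 1) (by omega)
        (hA _ (P.prop_of_iso e.symm (hG _)) V hV M) _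
    · exact ((DerivedCategory.singleFunctor _ q).map_isZero (hz q hq)).eq_of_tgt _ _
  have hE := isRlimVia_trunc (isLocGen_freeMod (ModSite.ringSh (𝔛.Osh h))) G {W : Opens (𝔛.X 0) | IsAffineOpen W}
    (fun U => by
      obtain ⟨κ, Y, g, -, hcov, hY⟩ := exists_refine hbas U ⊤ (GrothendieckTopology.top_mem _ U)
      exact ⟨κ, Y, g, hcov, hY⟩)
    fun V _ j' => ⟨_, fun T hT => by
      obtain ⟨κ, Y, g, hT', hcov, hY⟩ := exists_refine hbas V T hT
      exact ⟨κ, Y, g, hT', hcov, fun l => good (Y l) (hY l) j'⟩⟩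
  exact (good W hW j).bijective hE n hn

/-- No maps from the generator in a degree without cohomology. -/
theorem eq_zero_of_isZero {W : (𝔛.X 0).Opens} (hW : IsAffineOpen W) (G : DerivedCategory (FSch.ModF 𝔛 h))
    (hG : IndD G) (j : ℤ) (hj : IsZero (SiteCmp.HMod G j)) (φ : gen (h := h) W j ⟶ G) : φ = 0 := by
  let P := ObjectProperty.ind.{u} fun M : FSch.ModF 𝔛 h => FSch.IsCohF 𝔛 h M
  have hA : Acyc P := acyc_ind (h := h) hN
  let n := ((0 : ℤ) - j + 1).toNat + (-j).toNat + 2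
  refine (bijective_trunc hN hW G hG j n le_rfl).1 ?_
  simp only [zero_comp]
  let Z := (DerivedCategory.TStructure.t.truncGE (-(n : ℤ))).obj G
  haveI : Z.IsGE (-(n : ℤ)) := inferInstanceAs (DerivedCategory.TStructure.t.IsGE Z (-(n : ℤ)))
  refine eq_zero_of_isGE' _ j (-(n : ℤ)) Z (fun q hq hqj ψ => ?_) _
  have iso := @asIso _ _ _ _ _ (DerTrunc.isIso_homology_truncGEπ G (-(n : ℤ)) q hq)
  by_cases hq0 : q = j
  · subst hq0
    exact ((DerivedCategory.singleFunctor _ q).map_isZero (hj.of_iso iso.symm)).eq_of_tgt _ _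
  · obtain ⟨m, hm⟩ : ∃ m : ℕ, (m : ℤ) + 1 = j - q := ⟨(j - q - 1).toNat, by omega⟩
    exact eq_zero_of_subsingleton_HU _ _ j q (m + 1) (by omega) (hA _ (P.prop_of_iso iso (hG q)) W hW m) _

/-- Generators at affine opens see direct sums of complexes with ind-coherent cohomology. -/
theorem finHom_gen {W : (𝔛.X 0).Opens} (hW : IsAffineOpen W) {ι : Type u} (K : ι → DerivedCategory (FSch.ModF 𝔛 h))
    [HasCoproduct K] (hK : ∀ i, IndD (K i)) (j : ℤ) : FinHom K (gen (h := h) W j) := by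
  haveI : IsGrothendieckAbelian.{u} (FSch.ModF 𝔛 h) := KInj.isGrothendieckAbelian_sheafOfModules _
  haveI := HoCat.derivedCategory_hasColimitsOfShape (C := FSch.ModF 𝔛 h) (J := ι)
  haveI := FCat7.noetherianSpace_X0 hN
  haveI : PrespectralSpace ↑(𝔛.X 0).toTopCat := inferInstanceAs (PrespectralSpace ↥(𝔛.X 0))
  let n := ((0 : ℤ) - j + 1).toNat + (-j).toNat + 2
  let t := DerivedCategory.TStructure.t (C := FSch.ModF 𝔛 h)
  let a : ℤ := -(n : ℤ)
  let L : ι → DerivedCategory (FSch.ModF 𝔛 h) := fun i => (t.truncGE a).obj (K i)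
  let π : ∀ i, K i ⟶ L i := fun i => (t.truncGEπ a).app (K i)
  have hL : ∀ i, (L i).IsGE a := fun i => inferInstanceAs (t.IsGE ((t.truncGE a).obj (K i)) a)
  haveI hsum : (∐ L).IsGE a := CptBdd19.isGE_coproduct L a hL
  let p : (∐ K) ⟶ ∐ L := Limits.Sigma.map π
  haveI : t.IsGE (∐ L) a := hsum
  let v := t.descTruncGE p a
  have hv : (t.truncGEπ a).app (∐ K) ≫ v = p := t.π_descTruncGE p a
  haveI hvi : IsIso v := (DerivedCategory.isIso_iff (C := FSch.ModF 𝔛 h) v).2 fun q => by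
    by_cases hq : q < a
    · haveI : ((t.truncGE a).obj (∐ K)).IsGE a := inferInstanceAs (t.IsGE ((t.truncGE a).obj (∐ K)) a)
      exact isIso_of_source_target_iso_zero _ (DerivedCategory.isZero_of_isGE _ a q hq).isoZero
        (DerivedCategory.isZero_of_isGE _ a q hq).isoZero
    · have i1 := DerTrunc.isIso_homology_truncGEπ (∐ K) a q (by omega)
      have i2 : IsIso ((DerivedCategory.homologyFunctor _ q).map p) :=
        isIso_homology_sigmaMap K q π fun i => DerTrunc.isIso_homology_truncGEπ (K i) a q (by omega)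
      refine @IsIso.of_isIso_comp_left _ _ _ _ _ _ ((DerivedCategory.homologyFunctor _ q).map v) i1 ?_
      rw [← Functor.map_comp, hv]
      exact i2
  have hp : Function.Injective (fun φ : gen (h := h) W j ⟶ ∐ K => φ ≫ p) := fun φ φ' e => by
    refine (bijective_trunc hN hW _ (cohIn_ind_sigma hN K hK) j n le_rfl).1 ((cancel_mono v).1 ?_)
    exact (Category.assoc _ _ _).trans ((congrArg (φ ≫ ·) hv).trans
      (e.trans ((congrArg (φ' ≫ ·) hv).symm.trans (Category.assoc _ _ _).symm)))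
  exact finHom_of_map K L π p (fun i => Sigma.ι_map π i) hp
    (fun k x => (bijective_trunc hN hW (K k) (hK k) j n le_rfl).2 x)
    (finHom_gen_of_isGE (T := (𝔛.X 0).toTopCat) (𝔛.Osh h) L a hL hW.isCompact hW.isQuasiSeparated j)

end GrothLib.PAlg7
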