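import Groth.Agent.Lib.PAlg7.Chase
import Groth.Agent.Lib.PAlg7.Torsion
import Groth.Agent.Lib.DerComp.FiniteHom
import Groth.Agent.Lib.FMod7.ComplPull
import Groth.Agent.S7277

/-!
# The completion is bijective on maps between coherent objects over a complete base
-/

set_option autoImplicit false
set_option linter.style.haveILetI false
set_option linter.unusedSectionVars false
set_option backward.isDefEq.respectTransparency false
set_option maxHeartbeats 800000
universe u

open CategoryTheory CategoryTheory.Limits AlgebraicGeometry TopologicalSpace Opposite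

attribute [local instance] HasDerivedCategory.standard

noncomputable section

namespace GrothLib.PAlg7

open GrothLib.DerComp

variable {A : Type u} [CommRing A] [IsNoetherianRing A] (I : Ideal A) [IsAdicComplete I A] {X : Scheme.{u}}
  [X.Over (Spec (CommRingCat.of A))] [IsLocallyNoetherian X] [IsProper (X ↘ Spec (CommRingCat.of A))]
  {h : (FSch.completionAlong X (FFormal7.baseIdeal I X)).IsFormal}
  [PreservesFiniteLimits (FMod7.complMor h).pull]

/-- The inverse image is bijective on maps into objects with torsion cohomology. -/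
theorem bijAt_of_isDTorsZp (F Z : DerivedCategory (ModSite.Mod X.sheaf))
    (hZ : FTors.IsDTorsZp X (FFormal7.baseIdeal I X) Z) : BijAt (SiteCmp.pullD (FMod7.complMor h)) F Z := by
  haveI : IsIso ((DerCat.mapDerivedAdj (FMod7.complMor h).adj).unit.app Z) :=
    isIso_unit_mapDerivedAdj (FMod7.complMor h).adj Z fun i => Tors7.isIso_unit (h := h) (hZ i)
  let adj := DerCat.mapDerivedAdj (FMod7.complMor h).adj
  refine (Function.Bijective.of_comp_iff' (adj.homEquiv F ((FMod7.complMor h).pull.mapDerivedCategory.obj Z)).bijective _).1 ?_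
  have e : (adj.homEquiv F ((FMod7.complMor h).pull.mapDerivedCategory.obj Z)) ∘
      (fun φ : F ⟶ Z => (FMod7.complMor h).pull.mapDerivedCategory.map φ) =
      fun φ => φ ≫ adj.unit.app Z := funext fun φ => by
    simp only [Function.comp_apply]
    rw [Adjunction.homEquiv_unit]
    exact (adj.unit.naturality φ).symm
  exact e ▸ (asIso (adj.unit.app Z)).homToEquiv.bijective

/-- A coherent sheaf in degree zero. -/
theorem isCohD_inDF (M : X.Modules) (hM : Coh.IsCoh M) : DCoh.IsCohD (X := X) ((inDF X.sheaf).obj M) := fun i => by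
  rcases eq_or_ne i 0 with rfl | hi
  · exact QCoh.isCoh_of_iso ((DerivedCategory.singleFunctorCompHomologyFunctorIso X.Modules 0).app M).symm hM
  · let Y₀ : DCoh.D X := (DerivedCategory.singleFunctor X.Modules 0).obj M
    exact OX.isCoh_of_isZero (show IsZero ((DerivedCategory.homologyFunctor X.Modules i).obj Y₀) from
      if h : 0 < i then DerivedCategory.isZero_of_isLE Y₀ 0 i h
      else DerivedCategory.isZero_of_isGE Y₀ 0 i (by omega))

/-- **Formal functions in the derived category**: the inverse image is bijective from coherent objects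
bounded above into shifts of coherent modules. -/
theorem bijAt_coh (F : DerivedCategory (ModSite.Mod X.sheaf)) (hF : DCoh.IsCohD (X := X) F) (a : ℤ) [F.IsLE a]
    (M : X.Modules) (hM : Coh.IsCoh M) (n : ℤ) :
    BijAt (SiteCmp.pullD (FMod7.complMor h)) F (((inDF X.sheaf).obj M)⟦n⟧) := by
  obtain ⟨g, hg⟩ := I.fg_of_isNoetherianRing
  let L := SiteCmp.pullD (FMod7.complMor h)
  let Y := (inDF X.sheaf).obj M
  refine bijAt_of_kos (sharpG h) (fun s Z => pullD_map_smul h s Z) (g.toList.map (baseSec A X)) Y ?_ ?_ n
  · intro s hs m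
    obtain ⟨b, hb, rfl⟩ := List.mem_map.1 hs
    have hbI : b ∈ I := hg ▸ Ideal.subset_span (Finset.mem_toList.1 hb)
    constructor
    · have hfin : Module.Finite A ((show DCoh.D X from F) ⟶ (show DCoh.D X from Y)⟦m⟧) :=
        Groth.Agent.S7277.result A X F Y hF ⟨a, ‹_›⟩ (isCohD_inDF M hM)
          ⟨0, inferInstanceAs (((DerivedCategory.singleFunctor X.Modules 0).obj M).IsGE 0)⟩ m
      have hd := dcMod_of_finite I ((show DCoh.D X from F) ⟶ (show DCoh.D X from Y)⟦m⟧) hbI
      have e : ⇑(DCpl.telMap (baseSec A X b) (F ⟶ Y⟦m⟧)) =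
          ⇑(DCpl.telMap b ((show DCoh.D X from F) ⟶ (show DCoh.D X from Y)⟦m⟧)) :=
        funext fun x => funext fun j => congrArg (x j - ·) (smul_eq_baseSec A X b (x (j + 1))).symm
      change Function.Bijective ⇑(DCpl.telMap (baseSec A X b) (F ⟶ Y⟦m⟧))
      rw [e]
      exact hd
    · haveI := FMod7.isCohF_complMor_pull h M hM
      have hc : SCpl (sharpG h (baseSec A X b)) ((inDF _).obj ((FMod7.complMor h).pull.obj M)) :=
        sCpl_inDF Tors7.hN _ _ fun W _ => sharpG_baseSec_mem I h hbI W
      exact ((hc.of_iso (((FMod7.complMor h).pull.mapDerivedCategorySingleFunctor 0).app M).symm).shift m).dcMod _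
  · exact fun m => bijAt_of_isDTorsZp I F _ (isDTorsZp_of_nil I g hg _ ((nil_kos _ Y).shift m))

end GrothLib.PAlg7
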