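import Groth.Agent.Lib.DerComp.HomKos
import Groth.Agent.Lib.DerComp.Kos

/-!
# A functor is bijective on maps into complete objects when it is so on maps into their Koszul objects
-/

set_option autoImplicit false
set_option linter.unusedSectionVars false
universe t v u v' u'

open CategoryTheory CategoryTheory.Limits Pretriangulated

namespace GrothLib.PAlg7

open GrothLib.DerComp

variable {R : Type t} [CommRing R] {R' : Type t} [CommRing R'] {D : Type u} [Category.{v} D] [Preadditive D] [Linear R D]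
  [HasZeroObject D] [HasShift D ℤ] [∀ n : ℤ, (shiftFunctor D n).Additive] [Pretriangulated D]
  [∀ n : ℤ, (shiftFunctor D n).Linear R]
  {E : Type u'} [Category.{v'} E] [Preadditive E] [Linear R' E]
  [HasZeroObject E] [HasShift E ℤ] [∀ n : ℤ, (shiftFunctor E n).Additive] [Pretriangulated E]
  [∀ n : ℤ, (shiftFunctor E n).Linear R']
  (G : D ⥤ E) [G.CommShift ℤ] [G.IsTriangulated] (F : D)

/-- A sign as an isomorphism. -/
def signIso {A : Type*} [Category A] [Preadditive A] (ε : ℤˣ) (Z : A) : Z ≅ Z where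
  hom := ε • 𝟙 Z
  inv := ε • 𝟙 Z
  hom_inv_id := by rw [Linear.units_smul_comp, Linear.comp_units_smul, Category.comp_id, smul_smul, Int.units_mul_self, one_smul]
  inv_hom_id := by rw [Linear.units_smul_comp, Linear.comp_units_smul, Category.comp_id, smul_smul, Int.units_mul_self, one_smul]

/-- Bijectivity on maps from `F`. -/
abbrev BijAt (Y : D) : Prop := Function.Bijective fun φ : F ⟶ Y => G.map φ

theorem BijAt.of_iso {Y Y' : D} (h : BijAt G F Y) (e : Y ≅ Y') : BijAt G F Y' := by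
  refine ⟨fun a b hab => (cancel_mono e.inv).1 (h.1 ?_), fun ψ => ?_⟩
  · change G.map (a ≫ e.inv) = G.map (b ≫ e.inv)
    rw [G.map_comp, G.map_comp, show G.map a = G.map b from hab]
  · obtain ⟨a, ha⟩ := h.2 (ψ ≫ G.map e.inv)
    refine ⟨a ≫ e.hom, ?_⟩
    change G.map (a ≫ e.hom) = ψ
    rw [G.map_comp, show G.map a = _ from ha, Category.assoc, ← G.map_comp, e.inv_hom_id, G.map_id, Category.comp_id]

variable {G F} {s : R} {t' : R'}

theorem injective_core (T : Triangle D) (hT : T ∈ distTriang D) (w : T.obj₁ = T.obj₂)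
    (hm : T.mor₁ = eqToHom w ≫ (s • 𝟙 T.obj₂))
    (hσ : G.map (s • 𝟙 T.obj₂) = t' • 𝟙 (G.obj T.obj₂))
    (hC : Function.Injective fun φ : F ⟶ T.obj₃ => G.map φ) (hC' : BijAt G F T.invRotate.obj₁)
    (hd : DCpl.DCMod s (F ⟶ T.obj₂)) :
    Function.Injective fun φ : F ⟶ T.obj₂ => G.map φ := by
  obtain ⟨Y, Y', C, f, g, h⟩ := T
  change Y = Y' at w
  subst w
  change f = eqToHom rfl ≫ (s • 𝟙 Y) at hm
  rw [eqToHom_refl, Category.id_comp] at hm
  subst hm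
  have step : ∀ φ : F ⟶ Y, G.map φ = 0 → ∃ y : F ⟶ Y, G.map y = 0 ∧ φ = s • y := fun φ hφ => by
    have h2 : φ ≫ g = 0 := hC (show G.map (φ ≫ g) = G.map 0 by rw [G.map_comp, hφ, zero_comp, G.map_zero])
    obtain ⟨y, hy⟩ := Triangle.coyoneda_exact₂ _ hT φ h2
    change φ = y ≫ (s • 𝟙 Y) at hy
    rw [Linear.comp_smul, Category.comp_id] at hy
    let T' := (Triangle.mk (s • 𝟙 Y) g h).invRotate
    let i : T'.obj₁ ⟶ Y := T'.mor₁
    have hi : i ≫ (s • 𝟙 Y) = 0 := comp_distTriang_mor_zero₁₂ _ (inv_rot_of_distTriang _ hT)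
    let y : F ⟶ Y := y
    obtain ⟨k, hk⟩ := Triangle.coyoneda_exact₂ _ (G.map_distinguished _ (inv_rot_of_distTriang _ hT)) (G.map y) (by
      change G.map y ≫ G.map (s • 𝟙 Y) = 0
      rw [← G.map_comp, Linear.comp_smul, Category.comp_id, ← hy, hφ])
    change G.map y = k ≫ G.map i at hk
    obtain ⟨k', rfl⟩ := hC'.2 k
    refine ⟨y - k' ≫ i, ?_, ?_⟩
    · exact (G.map_sub).trans (sub_eq_zero.2 (hk.trans (G.map_comp _ _).symm))
    · rw [smul_sub, ← hy, show s • (k' ≫ i) = (k' ≫ i) ≫ (s • 𝟙 Y) by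
        rw [Linear.comp_smul, Category.comp_id], Category.assoc]
      exact ((congrArg (fun z => φ - z) ((congrArg (k' ≫ ·) hi).trans comp_zero)).trans (sub_zero φ)).symm
  intro a b hab
  refine sub_eq_zero.1 ?_
  have h0 : G.map (a - b) = 0 := by rw [G.map_sub]; exact sub_eq_zero.2 hab
  choose! y hy0 hy using step
  let x : ℕ → (F ⟶ Y) := fun j => Nat.rec (a - b) (fun _ p => y p) j
  have hx : ∀ j, G.map (x j) = 0 := fun j => by
    induction j with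
    | zero => exact h0
    | succ j ih => exact hy0 _ ih
  exact hd.eq_zero x (fun j => hy _ (hx j)) 0

theorem surjective_core (T : Triangle D) (hT : T ∈ distTriang D) (w : T.obj₁ = T.obj₂)
    (hm : T.mor₁ = eqToHom w ≫ (s • 𝟙 T.obj₂))
    (hσ : G.map (s • 𝟙 T.obj₂) = t' • 𝟙 (G.obj T.obj₂))
    (hC : Function.Surjective fun φ : F ⟶ T.obj₃ => G.map φ)
    (hY : Function.Injective fun φ : F ⟶ T.obj₁⟦(1 : ℤ)⟧ => G.map φ)
    (hd : DCpl.DCMod s (F ⟶ T.obj₂)) (hd' : DCpl.DCMod t' (G.obj F ⟶ G.obj T.obj₂)) :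
    Function.Surjective fun φ : F ⟶ T.obj₂ => G.map φ := by
  obtain ⟨Y, Y', C, f, g, h⟩ := T
  change Y = Y' at w
  subst w
  change f = eqToHom rfl ≫ (s • 𝟙 Y) at hm
  rw [eqToHom_refl, Category.id_comp] at hm
  subst hm
  change G.map (s • 𝟙 Y) = t' • 𝟙 (G.obj Y) at hσ
  have hσ' : ∀ y : F ⟶ Y, G.map (s • y) = t' • G.map y := fun y => by
    rw [show s • y = y ≫ (s • 𝟙 Y) by rw [Linear.comp_smul, Category.comp_id], G.map_comp, hσ, Linear.comp_smul,
      Category.comp_id]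
  have step : ∀ ψ : G.obj F ⟶ G.obj Y, ∃ (b : F ⟶ Y) (ψ' : G.obj F ⟶ G.obj Y), ψ = G.map b + t' • ψ' := fun ψ => by
    obtain ⟨c, hc⟩ := hC (ψ ≫ G.map g)
    change G.map c = ψ ≫ G.map g at hc
    have hch : c ≫ h = 0 := hY (show G.map (c ≫ h) = G.map 0 by
      rw [G.map_comp, hc, Category.assoc, ← G.map_comp,
        show g ≫ h = 0 from comp_distTriang_mor_zero₂₃ _ hT, G.map_zero, comp_zero, G.map_zero])
    obtain ⟨b, hb⟩ := Triangle.coyoneda_exact₃ _ hT c hch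
    change c = b ≫ g at hb
    obtain ⟨ψ', hψ'⟩ := Triangle.coyoneda_exact₂ _ (G.map_distinguished _ hT) (ψ - G.map b) (by
      change (ψ - G.map b) ≫ G.map g = 0
      rw [Preadditive.sub_comp, ← G.map_comp, ← hb, hc, sub_self])
    change ψ - G.map b = ψ' ≫ G.map (s • 𝟙 Y) at hψ'
    rw [hσ] at hψ'
    let ψ'' : G.obj F ⟶ G.obj Y := ψ'
    refine ⟨b, ψ'', ?_⟩
    rw [show t' • ψ'' = ψ'' ≫ (t' • 𝟙 (G.obj Y)) by rw [Linear.comp_smul, Category.comp_id]]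
    exact (add_sub_cancel _ _).symm.trans (congrArg (G.map b + ·) hψ')
  choose b r hr using step
  intro ψ
  let p : ℕ → (G.obj F ⟶ G.obj Y) := fun j => Nat.rec ψ (fun _ q => r q) j
  obtain ⟨y, hy⟩ := hd.2 fun j => b (p j)
  refine ⟨y 0, (sub_eq_zero.1 ?_).symm⟩
  refine hd'.eq_zero (fun j => p j - G.map (y j)) (fun j => ?_) 0
  have e : y j - s • y (j + 1) = b (p j) := (DCpl.telMap_apply _ _ _).symm.trans (congrFun hy j)
  have e' : p (j + 1) = r (p j) := rfl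
  dsimp only
  have h1 := hr (p j)
  rw [← e, G.map_sub] at h1
  rw [e', smul_sub, ← hσ']
  generalize r (p j) = q at h1 ⊢
  rw [h1]
  abel

variable (G F)

/-- Completeness of both morphism modules at all shifts. -/
def DCBoth (s : R) (t' : R') (Y : D) : Prop :=
  ∀ n : ℤ, DCpl.DCMod s (F ⟶ Y⟦n⟧) ∧ DCpl.DCMod t' (G.obj F ⟶ (G.obj Y)⟦n⟧)

variable {G F}

theorem bijAt_of_cone (Y : D) (hσ : ∀ Z : D, G.map (s • 𝟙 Z) = t' • 𝟙 (G.obj Z))
    (hC : ∀ n : ℤ, BijAt G F ((coneOf (s • 𝟙 Y))⟦n⟧)) (hd : DCBoth G F s t' Y) : ∀ n : ℤ, BijAt G F (Y⟦n⟧) := by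
  obtain ⟨g, h, hT⟩ := exists_coneOf_triangle (s • 𝟙 Y)
  have htr : ∀ n : ℤ, ∃ (g' : Y⟦n⟧ ⟶ (coneOf (s • 𝟙 Y))⟦n⟧) (h' : (coneOf (s • 𝟙 Y))⟦n⟧ ⟶ (Y⟦n⟧)⟦(1 : ℤ)⟧),
      Triangle.mk (s • 𝟙 (Y⟦n⟧)) g' h' ∈ distTriang D := by
    intro n
    let T := (Triangle.shiftFunctor D n).obj (Triangle.mk (s • 𝟙 Y) g h)
    let ε := n.negOnePow
    let g' : Y⟦n⟧ ⟶ (coneOf (s • 𝟙 Y))⟦n⟧ := T.mor₂
    let h₀ : (coneOf (s • 𝟙 Y))⟦n⟧ ⟶ (Y⟦n⟧)⟦(1 : ℤ)⟧ := T.mor₃
    let u := signIso ε (Y⟦n⟧)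
    refine ⟨g', h₀ ≫ u.inv⟦(1 : ℤ)⟧', ?_⟩
    refine isomorphic_distinguished _ (Triangle.shift_distinguished _ hT n) _
      (Triangle.isoMk _ _ u (Iso.refl _) (Iso.refl _) ?_ ?_ ?_)
    · change (s • 𝟙 (Y⟦n⟧)) ≫ 𝟙 (Y⟦n⟧) = (ε • 𝟙 (Y⟦n⟧)) ≫ (ε • (s • 𝟙 Y)⟦n⟧')
      rw [Category.comp_id, Linear.units_smul_comp, Category.id_comp, smul_smul, Int.units_mul_self, one_smul,
        map_shift_smul_id]
    · exact (Category.comp_id _).trans (Category.id_comp _).symm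
    · change (h₀ ≫ u.inv⟦(1 : ℤ)⟧') ≫ u.hom⟦(1 : ℤ)⟧' = 𝟙 _ ≫ h₀
      rw [Category.assoc, ← Functor.map_comp, u.inv_hom_id, CategoryTheory.Functor.map_id, Category.id_comp,
        Category.comp_id]
  have hdn : ∀ n : ℤ, DCpl.DCMod t' (G.obj F ⟶ G.obj (Y⟦n⟧)) := fun n =>
    dcMod_hom_iso (G.obj F) ((G.commShiftIso n).app Y).symm (hd n).2
  have hinj : ∀ n : ℤ, Function.Injective fun φ : F ⟶ Y⟦n⟧ => G.map φ := fun n => by
    obtain ⟨g', h', hT'⟩ := htr n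
    exact injective_core (G := G) (F := F) _ hT' rfl (Category.id_comp _).symm (hσ _) (hC n).1
      ((hC (n + -1)).of_iso G F ((shiftFunctorAdd' D n (-1) (n + -1) rfl).app _)) (hd n).1
  refine fun n => ⟨hinj n, ?_⟩
  obtain ⟨g', h', hT'⟩ := htr n
  refine surjective_core (G := G) (F := F) _ hT' rfl (Category.id_comp _).symm (hσ _) (hC n).2 ?_ (hd n).1 (hdn n)
  intro a b hab
  apply (cancel_mono ((shiftFunctorAdd' D n 1 (n + 1) rfl).inv.app Y)).1
  refine hinj (n + 1) ?_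
  change G.map (a ≫ _) = G.map (b ≫ _)
  rw [G.map_comp, G.map_comp, show G.map a = G.map b from hab]

/-- Bijectivity on maps into all shifts descends from the Koszul object. -/
theorem bijAt_of_kos (σ : R → R') (hσ : ∀ (a : R) (Z : D), G.map (a • 𝟙 Z) = σ a • 𝟙 (G.obj Z))
    (l : List R) (Y : D) (hd : ∀ a ∈ l, DCBoth G F a (σ a) Y) (h : ∀ n : ℤ, BijAt G F ((kos l Y)⟦n⟧)) :
    ∀ n : ℤ, BijAt G F (Y⟦n⟧) := by
  induction l with
  | nil => exact h
  | cons a l ih =>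
    refine ih (fun b hb => hd b (List.mem_cons_of_mem _ hb)) (bijAt_of_cone (kos l Y) (hσ a) h fun n => ⟨?_, ?_⟩)
    · exact dcMod_hom_kos l F Y (fun m => (hd a List.mem_cons_self m).1) n
    · clear ih h
      induction l generalizing n with
      | nil => exact (hd a List.mem_cons_self n).2
      | cons b l ih =>
        obtain ⟨g, e, hT⟩ := exists_coneOf_triangle (b • 𝟙 (kos l Y))
        have ih' : ∀ m : ℤ, DCpl.DCMod (σ a) (G.obj F ⟶ (G.obj (kos l Y))⟦m⟧) := fun m =>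
          ih (fun c hc => hd c (by rcases List.mem_cons.1 hc with rfl | hc <;> simp [*])) m
        exact dcMod_hom_obj₃_shift _ (G.map_distinguished _ hT) (G.obj F) ih' ih' n

end GrothLib.PAlg7
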