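import Groth.Agent.Lib.PAlg7.Bij
import Groth.Agent.Lib.DQEquiv25.Equiv
import Groth.Agent.Lib.OX.RegularPerfect
import Groth.Agent.Lib.DerCat.CohIn

/-!
# Dévissage of bijectivity on morphism groups
-/

set_option autoImplicit false
set_option linter.style.haveILetI false
set_option linter.unusedSectionVars false
set_option maxHeartbeats 800000
set_option linter.overlappingInstances false
universe v v' u u'

open CategoryTheory CategoryTheory.Limits Pretriangulated AlgebraicGeometry

noncomputable section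

namespace GrothLib.PAlg7

section Abstract

variable {D : Type u} [Category.{v} D] [Preadditive D] [HasZeroObject D] [HasShift D ℤ]
  [∀ n : ℤ, (shiftFunctor D n).Additive] [Pretriangulated D]
  {E : Type u'} [Category.{v'} E] [Preadditive E] [HasZeroObject E] [HasShift E ℤ]
  [∀ n : ℤ, (shiftFunctor E n).Additive] [Pretriangulated E]
  (G : D ⥤ E) [G.Additive] [G.CommShift ℤ] [G.IsTriangulated] (F : D)

/-- Bijectivity on maps from `F` into all shifts. -/
def BijAll (Y : D) : Prop := ∀ n : ℤ, BijAt G F (Y⟦n⟧)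

variable {G F}

theorem BijAll.of_iso' {Y Y' : D} (h : BijAll G F Y) (e : Y ≅ Y') : BijAll G F Y' :=
  fun n => (h n).of_iso G F ((shiftFunctor D n).mapIso e)

theorem BijAll.shift' {Y : D} (h : BijAll G F Y) (m : ℤ) : BijAll G F (Y⟦m⟧) :=
  fun n => (h (m + n)).of_iso G F ((shiftFunctorAdd D m n).app Y)

theorem bijAll_obj₂ {T : Triangle D} (hT : T ∈ distTriang D) (h₁ : BijAll G F T.obj₁) (h₃ : BijAll G F T.obj₃) :
    BijAll G F T.obj₂ := fun n => by
  refine DQEquiv25.bijective_obj₂ G F _ (Triangle.shift_distinguished _ hT n) (h₁ n) (h₃ n) ?_ ?_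
  · exact (h₁ (n + 1)).of_iso G F ((shiftFunctorAdd' D n 1 (n + 1) rfl).app T.obj₁)
  · exact (h₃ (n + -1)).of_iso G F ((shiftFunctorAdd' D n (-1) (n + -1) rfl).app T.obj₃)

theorem bijAll_obj₃ {T : Triangle D} (hT : T ∈ distTriang D) (h₁ : BijAll G F T.obj₁) (h₂ : BijAll G F T.obj₂) :
    BijAll G F T.obj₃ :=
  bijAll_obj₂ (rot_of_distTriang _ hT) h₂ (h₁.shift' 1)

end Abstract

end GrothLib.PAlg7

attribute [local instance] HasDerivedCategory.standard

namespace GrothLib.PAlg7

open GrothLib.DerComp

instance additive_pullD {Y : Scheme.{u}} [IsLocallyNoetherian Y] {𝓘 : Y.IdealSheafData}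
    {h : (FSch.completionAlong Y 𝓘).IsFormal} [PreservesFiniteLimits (FMod7.complMor h).pull] :
    (SiteCmp.pullD (FMod7.complMor h)).Additive :=
  haveI : ((FMod7.complMor h).push.mapDerivedCategory).IsRightAdjoint := (Tors7.dAdj (h := h)).isRightAdjoint
  (Tors7.dAdj (h := h)).left_adjoint_additive

variable {A : Type u} [CommRing A] [IsNoetherianRing A] (I : Ideal A) [IsAdicComplete I A] {X : Scheme.{u}}
  [X.Over (Spec (CommRingCat.of A))] [IsLocallyNoetherian X] [IsProper (X ↘ Spec (CommRingCat.of A))]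
  {h : (FSch.completionAlong X (FFormal7.baseIdeal I X)).IsFormal}
  [PreservesFiniteLimits (FMod7.complMor h).pull]

/-- Bijectivity into bounded coherent objects. -/
theorem bijAll_bounded (F : DerivedCategory (ModSite.Mod X.sheaf)) (hF : DCoh.IsCohD (X := X) F) (a₀ : ℤ) [F.IsLE a₀]
    (m : ℕ) : ∀ (K : DCoh.D X) (a : ℤ) [K.IsGE a] [K.IsLE (a + m)], DCoh.IsCohD K →
      BijAll (SiteCmp.pullD (FMod7.complMor h)) F (show DerivedCategory (ModSite.Mod X.sheaf) from K) := by
  have base : ∀ (K : DCoh.D X) (b : ℤ) [K.IsGE b] [K.IsLE b], DCoh.IsCohD K →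
      BijAll (SiteCmp.pullD (FMod7.complMor h)) F (show DerivedCategory (ModSite.Mod X.sheaf) from K) := by
    intro K b _ _ hK
    let e : K ≅ ((inDF X.sheaf).obj (DCoh.HD K b))⟦-b⟧ := (DerTrunc.nonempty_iso_single K b).some ≪≫
      (((DerivedCategory.singleFunctors X.Modules).shiftIso (-b) b 0 (by omega)).app (DCoh.HD K b)).symm
    exact (BijAll.shift' (fun n => bijAt_coh I (h := h) F hF a₀ (DCoh.HD K b) (hK b) n) (-b)).of_iso' e.symm
  induction m with
  | zero =>
    intro K a _ hLE hK
    have : K.IsLE a := by simpa using hLE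
    exact base K a hK
  | succ m ih =>
    intro K a hGE hLE hK
    obtain ⟨b, hb⟩ : ∃ b, b = a + (m + 1 : ℕ) := ⟨_, rfl⟩
    rw [← hb] at hLE
    let t := DerivedCategory.TStructure.t (C := X.Modules)
    let t' := DerivedCategory.TStructure.t (C := ModSite.Mod X.sheaf)
    refine bijAll_obj₂ (G := SiteCmp.pullD (FMod7.complMor h)) (F := F) (T := (t'.triangleLTGE b).obj K) (t'.triangleLTGE_distinguished b K) ?_ ?_
    · change BijAll _ F ((t.truncLT b).obj K)
      have : ((t.truncLT b).obj K).IsLE (a + m) := t.isLE_truncLT_obj K b (a + m) (by omega)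
      have : ((t.truncLT b).obj K).IsGE a := inferInstanceAs (t.IsGE ((t.truncLT b).obj K) a)
      refine ih _ a fun i => ?_
      by_cases hi : i < b
      · have := DerTrunc.isIso_homology_truncLTι K b i hi
        exact QCoh.isCoh_of_iso (asIso ((DerivedCategory.homologyFunctor X.Modules i).map ((t.truncLTι b).app K))).symm
          (hK i)
      · exact OX.isCoh_of_isZero (DerivedCategory.isZero_of_isLE ((t.truncLT b).obj K) (a + m) i (by omega))
    · change BijAll _ F ((t.truncGE b).obj K)
      have : ((t.truncGE b).obj K).IsGE b := inferInstanceAs (t.IsGE ((t.truncGE b).obj K) b)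
      have : ((t.truncGE b).obj K).IsLE b := inferInstanceAs (t.IsLE ((t.truncGE b).obj K) b)
      refine base _ b fun i => ?_
      by_cases hi : b ≤ i
      · have := DerTrunc.isIso_homology_truncGEπ K b i hi
        exact QCoh.isCoh_of_iso (asIso ((DerivedCategory.homologyFunctor X.Modules i).map ((t.truncGEπ b).app K)))
          (hK i)
      · exact OX.isCoh_of_isZero (DerivedCategory.isZero_of_isGE ((t.truncGE b).obj K) b i (by omega))

/-- Bijectivity between perfect objects. -/
theorem bijAll_perfect [IsNoetherian X] {P K : DCoh.D X} (hP : DCoh.IsPerfect P) (hK : DCoh.IsPerfect K) :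
    BijAll (SiteCmp.pullD (FMod7.complMor h)) (show DerivedCategory (ModSite.Mod X.sheaf) from P)
      (show DerivedCategory (ModSite.Mod X.sheaf) from K) := by
  obtain ⟨hc, a, b, ha, hb⟩ := OX.isCohD_and_bounded_of_isPerfect hP
  obtain ⟨hc', a', b', ha', hb'⟩ := OX.isCohD_and_bounded_of_isPerfect hK
  haveI : K.IsLE (a' + (b' - a').toNat) :=
    DerivedCategory.TStructure.t.isLE_of_le K b' _ (by omega)
  haveI : (show DerivedCategory (ModSite.Mod X.sheaf) from P).IsLE b := hb
  exact bijAll_bounded I _ hc b (b' - a').toNat K a' hc'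

end GrothLib.PAlg7
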