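import Groth.Agent.Lib.PAlg7.Gen
import Groth.Agent.Lib.PAlg7.Dev
import Groth.Agent.Lib.OX.DQCohBrown
import Groth.Agent.Lib.SiteDer.Push
import Groth.Agent.Lib.FCat7.IndHat
import Groth.Agent.Lib.TriCat.ThickGen

/-!
# Inverse images of perfect complexes to the completion
-/

set_option autoImplicit false
set_option linter.style.haveILetI false
set_option linter.unusedSectionVars false
set_option backward.isDefEq.respectTransparency false
set_option maxHeartbeats 800000
universe u

open CategoryTheory CategoryTheory.Limits AlgebraicGeometry TopologicalSpace Opposite Pretriangulated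

attribute [local instance] HasDerivedCategory.standard

noncomputable section

namespace GrothLib.PAlg7

section Abstract

variable {D : Type*} [Category D] [Preadditive D] [HasZeroObject D] [HasShift D ℤ]
  [∀ n : ℤ, (shiftFunctor D n).Additive] [Pretriangulated D]

/-- Objects having no maps into a filtered family of classes, far enough out, form a thick class. -/
theorem thick_bound (Z : ℤ → D → Prop) (hZ : ∀ c c' K, c' ≤ c → Z c' K → Z c K) :
    TriCat.Thick fun A : D => ∃ b : ℤ, ∀ (n : ℤ) K, Z (b - n) K → ∀ φ : A⟦n⟧ ⟶ K, φ = 0 where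
  zero hA := ⟨0, fun n K _ φ => ((shiftFunctor D n).map_isZero hA).eq_of_src _ _⟩
  shift {A} m := by
    rintro ⟨b, hb⟩
    refine ⟨b - m, fun n K hK φ => ?_⟩
    let e := (shiftFunctorAdd D m n).app A
    exact (cancel_epi e.hom).1 ((hb (m + n) K (hZ _ _ K (by omega) hK) _).trans comp_zero.symm)
  total {A B C} i₁ p₁ i₂ p₂ e := by
    rintro ⟨b, hb⟩ ⟨b', hb'⟩
    refine ⟨min b b', fun n K hK φ => ?_⟩
    have he : p₁⟦n⟧' ≫ i₁⟦n⟧' + p₂⟦n⟧' ≫ i₂⟦n⟧' = 𝟙 _ := by
      rw [← Functor.map_comp, ← Functor.map_comp, ← Functor.map_add, e, CategoryTheory.Functor.map_id]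
    rw [← Category.id_comp φ, ← he, Preadditive.add_comp, Category.assoc, Category.assoc,
      hb n K (hZ _ _ K (by omega) hK) (i₁⟦n⟧' ≫ φ),
      hb' n K (hZ _ _ K (by omega) hK) (i₂⟦n⟧' ≫ φ), comp_zero, comp_zero, add_zero]
  cone T hT := by
    rintro ⟨b, hb⟩ ⟨b', hb'⟩
    refine ⟨min (b - 1) b', fun n K hK φ => ?_⟩
    let S := (Triangle.shiftFunctor D n).obj T
    let φ' : S.obj₃ ⟶ K := φ
    obtain ⟨ψ, hψ⟩ := Triangle.yoneda_exact₃ S (Triangle.shift_distinguished _ hT n) φ'
      (hb' n K (hZ _ _ K (by omega) hK) _)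
    have h0 : ψ = 0 := by
      let e := (shiftFunctorAdd' D n 1 (n + 1) rfl).app T.obj₁
      exact (cancel_epi e.hom).1 ((hb (n + 1) K (hZ _ _ K (by omega) hK) _).trans comp_zero.symm)
    exact hψ.trans ((congrArg (fun χ => S.mor₃ ≫ χ) h0).trans comp_zero)

end Abstract

variable {X : Scheme.{u}} [IsNoetherian X] {𝓘 : X.IdealSheafData}
  {h : (FSch.completionAlong X 𝓘).IsFormal} [PreservesFiniteLimits (FMod7.complMor h).pull]

instance compactSpace_level_zero : CompactSpace ((FSch.completionAlong X 𝓘).X 0) :=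
  Tors7.isClosedEmbedding_p0.compactSpace

/-- The inverse image, on `D(X)`. -/
abbrev pL (h : (FSch.completionAlong X 𝓘).IsFormal) [PreservesFiniteLimits (FMod7.complMor h).pull] :
    DerivedCategory (ModSite.Mod X.sheaf) ⥤ DerivedCategory (FSch.ModF (FSch.completionAlong X 𝓘) h) :=
  SiteCmp.pullD (FMod7.complMor h)

instance additive_pL : (pL h).Additive :=
  haveI := (Tors7.dAdj (h := h)).isRightAdjoint
  (Tors7.dAdj (h := h)).left_adjoint_additive

/-- The inverse image of a generator is a generator. -/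
def pullGenShiftIso (V : X.Opens) (k n : ℤ) :
    ((pL h).obj ((DerivedCategory.singleFunctor X.Modules k).obj ((OX.genF X).obj V)))⟦n⟧ ≅
      gen (h := h) (FMod7.onCompl V) (k - n) :=
  (shiftFunctor _ n).mapIso ((((FMod7.complMor h).pull.mapDerivedCategorySingleFunctor k).app _) ≪≫
    (DerivedCategory.singleFunctor _ k).mapIso (SiteDer.pullFreeIso (FMod7.complMor h) V)) ≪≫
    (((DerivedCategory.singleFunctors _).shiftIso n (k - n) k (by omega)).app _)

/-- Inverse images of perfect objects see direct sums of complexes with ind-coherent cohomology. -/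
theorem finHom_perfect {P : DCoh.D X} (hP : DCoh.IsPerfect P) :
    TriCat.FinHomOn.{u} (fun G => IndD (h := h) G) ((pL h).obj (show DerivedCategory (ModSite.Mod X.sheaf) from P)) := by
  let Q : DerivedCategory (FSch.ModF (FSch.completionAlong X 𝓘) h) → Prop :=
    TriCat.FinHomOn.{u} fun G => IndD (h := h) G
  have hQ : TriCat.Thick Q := TriCat.thick_finHomOn _
  let G := pL h
  refine OX.prop_of_isPerfect (X := X)
    (P := fun A : DCoh.D X => Q (G.obj (show DerivedCategory (ModSite.Mod X.sheaf) from A))) (hQ.comap G)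
    (fun V hV k ι K _ hK n => ?_) hP
  exact (finHom_gen Tors7.hN (Tors7.isAffineOpen_onCompl hV) K hK (k - n)).of_iso (pullGenShiftIso V k n).symm

/-- Maps out of the inverse image of a perfect object see only bounded degrees. -/
theorem exists_degree {P : DCoh.D X} (hP : DCoh.IsPerfect P) : ∃ b : ℤ,
    ∀ (n : ℤ) G, IndD (h := h) G ∧ (∀ q : ℤ, b - n ≤ q → IsZero (SiteCmp.HMod G q)) →
      ∀ φ : ((pL h).obj (show DerivedCategory (ModSite.Mod X.sheaf) from P))⟦n⟧ ⟶ G, φ = 0 := by
  let G := pL h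
  let Z : ℤ → DerivedCategory (FSch.ModF (FSch.completionAlong X 𝓘) h) → Prop := fun c K =>
    IndD (h := h) K ∧ ∀ q : ℤ, c ≤ q → IsZero (SiteCmp.HMod K q)
  have hQ := thick_bound Z fun c c' K hc hK => ⟨hK.1, fun q hq => hK.2 q (by omega)⟩
  refine OX.prop_of_isPerfect (X := X) (hQ.comap G) (fun V hV k => ⟨k, fun n K hK φ => ?_⟩) hP
  let e := pullGenShiftIso (h := h) V k n
  exact (cancel_epi e.inv).1 ((eq_zero_of_isZero Tors7.hN (Tors7.isAffineOpen_onCompl hV) K hK.1 (k - n)
    (hK.2 _ le_rfl) _).trans comp_zero.symm)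

section Proper

variable {A : Type u} [CommRing A] [IsNoetherianRing A] (I : Ideal A) [IsAdicComplete I A]
  [X.Over (Spec (CommRingCat.of A))] [IsProper (X ↘ Spec (CommRingCat.of A))]
  {h₀ : (FSch.completionAlong X (FFormal7.baseIdeal I X)).IsFormal}
  [PreservesFiniteLimits (FMod7.complMor h₀).pull]

/-- Inverse images of complexes with quasi-coherent cohomology have ind-coherent cohomology. -/
theorem indD_pullD (E : DCoh.D X) (hE : DCoh.IsQCohD E) :
    IndD (h := h₀) ((pL h₀).obj (show DerivedCategory (ModSite.Mod X.sheaf) from E)) := fun i => by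
  refine (FCat7.ind_iff_exists_iso_pull I h₀ rfl _).2 ⟨DCoh.HD E i, hE i, ?_⟩
  exact ⟨(Tors7.nonempty_hMod_pullD (h := h₀) E i).some.symm⟩

end Proper

end GrothLib.PAlg7
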