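import Groth.Agent.Lib.FFormal7.Levels
import Groth.Agent.Lib.FSchSys.ComplFlat
import Groth.Agent.Lib.AdicExtra.Completion

/-!
# Completing the base does not change the completion
-/

set_option autoImplicit false
set_option linter.style.haveILetI false
set_option linter.unusedSectionVars false
universe u

open CategoryTheory CategoryTheory.Limits AlgebraicGeometry TopologicalSpace Opposite

noncomputable section

namespace GrothLib.PAlg7

variable {B : Type u} [CommRing B] (J : Ideal B)

/-- The completed base. -/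
abbrev Bhat : Type u := AdicCompletion J B

/-- The ideal of the completed base. -/
abbrev Jhat : Ideal (Bhat J) := J.map (algebraMap B (Bhat J))

theorem isAdicComplete_Jhat [IsNoetherianRing B] : IsAdicComplete (Jhat J) (Bhat J) :=
  AdicCompletion.isAdicComplete_self J J.fg_of_isNoetherianRing

/-- The quotients do not change. -/
def quotHatEquiv [IsNoetherianRing B] (k : ℕ) : Bhat J ⧸ Jhat J ^ (k + 1) ≃+* B ⧸ J ^ (k + 1) :=
  (Ideal.quotEquivOfEq (by rw [Ideal.map_pow])).trans (FSchSys.quotPowEquiv J J.fg_of_isNoetherianRing (k + 1))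

theorem quotHatEquiv_algebraMap [IsNoetherianRing B] (k : ℕ) (b : B) :
    quotHatEquiv J k (Ideal.Quotient.mk _ (algebraMap B (Bhat J) b)) = Ideal.Quotient.mk _ b := by
  change AdicCompletion.evalₐ J (k + 1) (algebraMap B (Bhat J) b) = _
  exact (AdicCompletion.evalₐ J (k + 1)).commutes b

/-- The spectra of the quotients do not change. -/
def quotHatIso [IsNoetherianRing B] (k : ℕ) :
    Spec (CommRingCat.of (Bhat J ⧸ Jhat J ^ (k + 1))) ≅ Spec (CommRingCat.of (B ⧸ J ^ (k + 1))) :=
  Scheme.Spec.mapIso ((quotHatEquiv J k).toCommRingCatIso.symm :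
      CommRingCat.of (B ⧸ J ^ (k + 1)) ≅ CommRingCat.of (Bhat J ⧸ Jhat J ^ (k + 1))).op

theorem quotHatIso_hom [IsNoetherianRing B] (k : ℕ) :
    (quotHatIso J k).hom ≫ CohB1.specQuot J k =
      CohB1.specQuot (Jhat J) k ≫ Spec.map (CommRingCat.ofHom (algebraMap B (Bhat J))) := by
  rw [quotHatIso, CohB1.specQuot, CohB1.specQuot]
  change Spec.map _ ≫ Spec.map _ = Spec.map _ ≫ Spec.map _
  rw [← Spec.map_comp, ← Spec.map_comp]
  congr 1
  ext b
  exact (RingEquiv.symm_apply_eq _).2 (quotHatEquiv_algebraMap J k b).symm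

variable {X : Scheme.{u}} (f : X ⟶ Spec (CommRingCat.of B))

/-- The scheme over the completed base. -/
abbrev Xhat : Scheme.{u} := pullback f (Spec.map (CommRingCat.ofHom (algebraMap B (Bhat J))))

/-- Its structure map. -/
abbrev fhat : Xhat J f ⟶ Spec (CommRingCat.of (Bhat J)) := pullback.snd _ _

/-- **The completion does not change when the base is completed.** -/
theorem nonempty_sysIso [IsNoetherianRing B] :
    Nonempty (FSch.completionAlong (Xhat J f) ((FSch.idealSpec (Bhat J) (Jhat J)).comap (fhat J f)) ≅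
      FSch.completionAlong X ((FSch.idealSpec B J).comap f)) := by
  letI : X.Over (Spec (CommRingCat.of B)) := ⟨f⟩
  letI : (Xhat J f).Over (Spec (CommRingCat.of (Bhat J))) := ⟨fhat J f⟩
  let X' := Xhat J f
  let 𝔛' := FSch.completionAlong X' (FFormal7.baseIdeal (Jhat J) X')
  let 𝔛 := FSch.completionAlong X (FFormal7.baseIdeal J X)
  let σ := Spec.map (CommRingCat.ofHom (algebraMap B (Bhat J)))
  have hpb : ∀ k, IsPullback (FFormal7.levι (Jhat J) X' k ≫ pullback.fst f σ)
      (FFormal7.levBase (Jhat J) X' k ≫ (quotHatIso J k).hom) f (CohB1.specQuot J k) := fun k =>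
    ((FFormal7.isPullback_lev (Jhat J) X' k).paste_horiz (IsPullback.of_hasPullback f σ)).of_iso
      (Iso.refl _) (Iso.refl _) (quotHatIso J k) (Iso.refl _)
      (by simp) (by simp) (by simp) (by simp [quotHatIso_hom, σ])
  let τ : ∀ k, 𝔛'.X k ≅ 𝔛.X k := fun k => (hpb k).isoIsPullback _ _ (FFormal7.isPullback_lev J X k)
  have hτ : ∀ k, (τ k).hom ≫ FFormal7.levι J X k = FFormal7.levι (Jhat J) X' k ≫ pullback.fst f σ := fun k =>
    (hpb k).isoIsPullback_hom_fst _ _ (FFormal7.isPullback_lev J X k)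
  have hcomm : ∀ k, (τ k).hom ≫ 𝔛.ι k = 𝔛'.ι k ≫ (τ (k + 1)).hom := fun k => by
    rw [← cancel_mono (FFormal7.levι J X (k + 1))]
    calc ((τ k).hom ≫ 𝔛.ι k) ≫ FFormal7.levι J X (k + 1)
        = FFormal7.levι (Jhat J) X' k ≫ pullback.fst f σ := by
          rw [Category.assoc]; exact (congrArg ((τ k).hom ≫ ·) (FFormal7.levι_trans J X k)).trans (hτ k)
      _ = (𝔛'.ι k ≫ FFormal7.levι (Jhat J) X' (k + 1)) ≫ pullback.fst f σ := by
          rw [← FFormal7.levι_trans (Jhat J) X' k]
      _ = _ := by rw [Category.assoc, Category.assoc, ← hτ (k + 1)]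
  exact ⟨⟨⟨fun k => (τ k).hom, hcomm⟩,
    ⟨fun k => (τ k).inv, fun k => (cancel_mono (τ (k + 1)).hom).1
      ((Category.assoc _ _ _).trans (((congrArg ((τ k).inv ≫ ·) (hcomm k).symm).trans
        ((τ k).inv_hom_id_assoc _)).trans (((Category.assoc _ _ _).trans
          ((congrArg (𝔛.ι k ≫ ·) (τ (k + 1)).inv_hom_id).trans (Category.comp_id _))).symm)))⟩,
    FSch.Hom.ext (funext fun k => (τ k).hom_inv_id), FSch.Hom.ext (funext fun k => (τ k).inv_hom_id)⟩⟩

end GrothLib.PAlg7
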