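import Groth.Agent.Lib.PAlg7.Scalar
import Groth.Agent.Lib.RpushD7.Exists
import Groth.Agent.Lib.DerComp.FiniteHom
import Groth.Agent.Lib.DerComp.GammaAction
import Groth.Agent.Lib.FCat7.Bridge
import Groth.Agent.Lib.FFormal7.Levels

/-!
# Coherent modules on the completion are complete for sections of the ideal of definition
-/

set_option autoImplicit false
set_option linter.style.haveILetI false
set_option linter.unusedSectionVars false
set_option backward.isDefEq.respectTransparency false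
universe u

open CategoryTheory CategoryTheory.Limits AlgebraicGeometry TopologicalSpace Opposite

attribute [local instance] HasDerivedCategory.standard

noncomputable section

namespace GrothLib.PAlg7

open GrothLib.DerComp

variable {𝔛 : FSch.Sys.{u}} {h : 𝔛.IsFormal} (hN : 𝔛.IsLocNoethFormal)
include hN

/-- Maps from the generator at an affine open into shifts of a coherent module vanish off degree zero. -/
theorem subsingleton_free_shift (F : FSch.ModF 𝔛 h) [FSch.IsCohF 𝔛 h F] {W : (𝔛.X 0).Opens} (hW : IsAffineOpen W)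
    (n : ℤ) (hn : n ≠ 0) :
    Subsingleton ((inDF (𝔛.Osh h)).obj (ModSite.freeOn (𝔛.Osh h) W) ⟶ ((inDF (𝔛.Osh h)).obj F)⟦n⟧) := by
  let P := (SiteDer.freeMod (𝔛.Osh h)).obj W
  let e₁ : (inDF (𝔛.Osh h)).obj (ModSite.freeOn (𝔛.Osh h) W) ≅ (DerivedCategory.singleFunctor (FSch.ModF 𝔛 h) 0).obj P :=
    (DerivedCategory.singleFunctor (FSch.ModF 𝔛 h) 0).mapIso ((freeRep (𝔛.Osh h) W).iso (freeModRep (𝔛.Osh h) W))
  let e₂ : ((inDF (𝔛.Osh h)).obj F)⟦n⟧ ≅ (DerivedCategory.singleFunctor (FSch.ModF 𝔛 h) (-n)).obj F :=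
    ((DerivedCategory.singleFunctors (FSch.ModF 𝔛 h)).shiftIso n (-n) 0 (by omega)).app F
  suffices hψ : ∀ ψ : (DerivedCategory.singleFunctor (FSch.ModF 𝔛 h) 0).obj P ⟶
      (DerivedCategory.singleFunctor (FSch.ModF 𝔛 h) (-n)).obj F, ψ = 0 by
    refine ⟨fun a b => (cancel_mono e₂.hom).1 ((cancel_epi e₁.inv).1 ?_)⟩
    exact (hψ _).trans (hψ _).symm
  intro ψ
  rcases lt_or_gt_of_ne hn with hlt | hgt
  · haveI : ((DerivedCategory.singleFunctor (FSch.ModF 𝔛 h) 0).obj P).IsLE 0 := inferInstance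
    haveI : ((DerivedCategory.singleFunctor (FSch.ModF 𝔛 h) (-n)).obj F).IsGE (-n) := inferInstance
    exact DerivedCategory.TStructure.t.zero_of_isLE_of_isGE ψ 0 (-n) (by omega) inferInstance inferInstance
  · obtain ⟨m, hm⟩ : ∃ m : ℕ, (m : ℤ) + 1 = n := ⟨(n - 1).toNat, by omega⟩
    exact SiteDer.eq_zero_of_subsingleton_HU F W 0 (-n) (m + 1) (by omega)
      (RpushD7.acyc_coh (h := h) hN F ‹_› W hW m) ψ

/-- A coherent module is complete for a global section lying in the ideals of definition of affine opens. -/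
theorem sCpl_inDF (F : FSch.ModF 𝔛 h) [FSch.IsCohF 𝔛 h F] (s : _root_.DerComp.GSec (𝔛.Osh h))
    (hs : ∀ W : (𝔛.X 0).Opens, IsAffineOpen W → s.1 W ∈ FMod7.secIdeal 𝔛 h W) :
    SCpl s ((inDF (𝔛.Osh h)).obj F) := by
  let O := 𝔛.Osh h
  refine sCpl_of_detecting (ι := {W : (𝔛.X 0).Opens // IsAffineOpen W} × ℤ)
    (fun p => ((inDF O).obj (ModSite.freeOn O p.1.1))⟦p.2⟧) (fun {A B} f hf => ?_)
    fun p => (dcMod_shift_iff s _ _ p.2).2 (?_)
  · obtain ⟨Z, g, δ, hT⟩ := Pretriangulated.distinguished_cocone_triangle f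
    refine (Pretriangulated.Triangle.isZero₃_iff_isIso₁ _ hT).1 (isZero_of_freeMod_locally fun V k φ => ?_)
    let S : Sieve V :=
      { arrows := fun W _ => ∃ W₀ : (𝔛.X 0).Opens, IsAffineOpen W₀ ∧ W ≤ W₀ ∧ W₀ ≤ V
        downward_closed := fun {W W'} _ hW k => by
          obtain ⟨W₀, h0, h1, h2⟩ := hW
          exact ⟨W₀, h0, k.le.trans h1, h2⟩ }
    refine ⟨S, fun x hx => ?_, fun W a hW => ?_⟩
    · obtain ⟨W, hW, hxW, hWV⟩ := exists_isAffineOpen_mem_and_subset (x := x) (U := V) hx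
      exact ⟨W, homOfLE hWV, ⟨W, hW, le_rfl, hWV⟩, hxW⟩
    obtain ⟨W₀, h0, h1, h2⟩ := hW
    let G := (inDF O).obj (ModSite.freeOn O W₀)
    let e : G⟦-k⟧ ≅ (DerivedCategory.singleFunctor (FSch.ModF 𝔛 h) k).obj ((SiteDer.freeMod O).obj W₀) :=
      ((DerivedCategory.singleFunctors (FSch.ModF 𝔛 h)).shiftIso (-k) k 0 (by omega)).app _ ≪≫
        (DerivedCategory.singleFunctor (FSch.ModF 𝔛 h) k).mapIso ((freeRep O W₀).iso (freeModRep O W₀))
    have hz : (DerivedCategory.singleFunctor (FSch.ModF 𝔛 h) k).map ((SiteDer.freeMod O).map (homOfLE h2)) ≫ φ = 0 :=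
      (cancel_epi e.hom).1 ((eq_zero_of_bijective_comp _ hT G (fun n => hf (⟨W₀, h0⟩, n)) (-k) _).trans
        comp_zero.symm)
    rw [show a = homOfLE h1 ≫ homOfLE h2 from Subsingleton.elim _ _, Functor.map_comp, Functor.map_comp,
      Category.assoc]
    exact (congrArg _ hz).trans comp_zero
  obtain ⟨⟨W, hW⟩, m⟩ := p
  dsimp only
  generalize -m = n
  rw [dcMod_global_iff]
  by_cases hn : n = 0
  · subst hn
    let O := 𝔛.Osh h
    refine (seqBij_iff_of_iso_right ((shiftFunctorZero (DerivedCategory (FSch.ModF 𝔛 h)) ℤ).app _).symm).1 ?_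
    refine (seqBij_congr (fun a => (inDF O).map a) ⟨(DerivedCategory.singleFunctor (FSch.ModF 𝔛 h) 0).map_injective,
        (DerivedCategory.singleFunctor (FSch.ModF 𝔛 h) 0).map_surjective⟩
      (fun _ _ => Functor.map_add _) fun _ => Functor.map_comp _ _ _).1 ?_
    let e := freeRep O W
    haveI := FMod7.isAdicComplete_Sec (h := h) hN hW
    haveI := FMod7.isNoetherianRing_Sec (h := h) hN hW
    haveI : Module.Finite (FMod7.Sec 𝔛 h W) (ModSite.sect F W) := FCat7.moduleFinite_sect hN hW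
    have hd : DCpl.DCMod (show FMod7.Sec 𝔛 h W from s.1 W) (ModSite.sect F W) :=
      dcMod_of_finite (FMod7.secIdeal 𝔛 h W) _ (hs W hW)
    have hpi : Function.Bijective fun (x : ℕ → (ModSite.freeOn O W ⟶ F)) (m : ℕ) =>
        (show ModSite.sect F W from e.eqv F (x m)) :=
      ⟨fun a b hab => funext fun m => (e.eqv F).injective (congrFun hab m), fun y =>
        ⟨fun m => (e.eqv F).symm (y m), funext fun m => (e.eqv F).apply_symm_apply _⟩⟩
    refine (Function.Bijective.of_comp_iff' hpi _).1 ?_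
    have key : ((fun (x : ℕ → (ModSite.freeOn O W ⟶ F)) (m : ℕ) => (show ModSite.sect F W from e.eqv F (x m))) ∘
        fun (x : ℕ → (ModSite.freeOn O W ⟶ F)) (m : ℕ) => x m - e.mulEnd (s.1 W) ≫ x (m + 1)) =
        ⇑(DCpl.telMap (show FMod7.Sec 𝔛 h W from s.1 W) (ModSite.sect F W)) ∘
          fun (x : ℕ → (ModSite.freeOn O W ⟶ F)) (m : ℕ) => (show ModSite.sect F W from e.eqv F (x m)) := by
      funext x m
      simp only [Function.comp_apply, DCpl.telMap_apply]
      have hsub : ∀ a b : ModSite.freeOn O W ⟶ F, (show ModSite.sect F W from e.eqv F (a - b)) =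
          (show ModSite.sect F W from e.eqv F a) - (show ModSite.sect F W from e.eqv F b) := fun a b => by
        rw [eq_sub_iff_add_eq]
        exact (e.eqv_add _ _).symm.trans (congrArg _ (sub_add_cancel a b))
      exact (hsub _ _).trans (congrArg _ (e.eqv_mulEnd_comp _ _))
    rw [key]
    exact hd.comp hpi
  · haveI := subsingleton_free_shift hN F hW n hn
    exact ⟨fun a b _ => funext fun m => Subsingleton.elim _ _, fun y => ⟨y, funext fun m => Subsingleton.elim _ _⟩⟩

end GrothLib.PAlg7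

namespace GrothLib.PAlg7

variable {A : Type u} [CommRing A] (I : Ideal A) {X : Scheme.{u}} [X.Over (Spec (CommRingCat.of A))]
  (h : (FSch.completionAlong X (FFormal7.baseIdeal I X)).IsFormal)

/-- The image of a section of the ideal of the base lies in the ideals of definition. -/
theorem sharpG_baseSec_mem [IsLocallyNoetherian X] {a : A} (ha : a ∈ I) (W : ((FSch.completionAlong X (FFormal7.baseIdeal I X)).X 0).Opens) :
    (sharpG h (DerComp.baseSec A X a)).1 W ∈ FMod7.secIdeal (FSch.completionAlong X (FFormal7.baseIdeal I X)) h W := by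
  let C := FSch.completionAlong X (FFormal7.baseIdeal I X)
  let t : Γ(X, ⊤) := Coh.toGlobal (X ↘ Spec (CommRingCat.of A)) a
  have ht : (DerComp.baseSec A X a).1 ⊤ = t := by
    rw [DerComp.baseSec_val, show (homOfLE (le_top : (⊤ : X.Opens) ≤ ⊤)).op = 𝟙 (op (⊤ : X.Opens)) from rfl,
      X.presheaf.map_id]
    rfl
  have h1 : (FFormal7.levι I X 0).appTop.hom t = 0 := by
    show ((FFormal7.levι I X 0).appTop).hom
      ((X ↘ Spec (CommRingCat.of A)).appTop.hom ((Scheme.ΓSpecIso (CommRingCat.of A)).inv.hom a)) = 0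
    rw [← CommRingCat.comp_apply (X ↘ Spec (CommRingCat.of A)).appTop (FFormal7.levι I X 0).appTop,
      ← Scheme.Hom.comp_appTop, (FFormal7.isPullback_lev I X 0).w, Scheme.Hom.comp_appTop, CommRingCat.comp_apply]
    have h2 : (CohB1.specQuot I 0).appTop.hom ((Scheme.ΓSpecIso (CommRingCat.of A)).inv.hom a) =
        (Scheme.ΓSpecIso (CommRingCat.of (A ⧸ I ^ (0 + 1)))).inv.hom (Ideal.Quotient.mk (I ^ (0 + 1)) a) :=
      (ConcreteCategory.congr_hom (Scheme.ΓSpecIso_inv_naturality (CommRingCat.ofHom (Ideal.Quotient.mk (I ^ (0 + 1)))))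
        a).symm
    rw [h2, Ideal.Quotient.eq_zero_iff_mem.2 (by simpa using ha), map_zero, map_zero]
  rw [FMod7.secIdeal, RingHom.mem_ker]
  change FMod7.proj C h W 0 ((C.Osh h).obj.map _ _) = 0
  refine (FMod7.proj_res h ((FMod7.complMor h).fn.obj ⊤) le_top 0 _).trans ?_
  refine Eq.trans (congrArg _ ?_) (map_zero _)
  refine ((congrArg (fun z => FMod7.proj C h _ 0 (FMod7.complFun h ⊤ z)) ht).trans
    (RingHom.congr_fun (FMod7.proj_complFun h ⊤ 0) t)).trans ?_
  rw [Scheme.Hom.appLE, CommRingCat.hom_comp, RingHom.comp_apply]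
  exact (congrArg _ h1).trans (map_zero _)

end GrothLib.PAlg7
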