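import Groth.Agent.Lib.PAlg7.Main

/-!
# The essential image of the completion functor on `D_qc`
-/

set_option autoImplicit false
set_option linter.style.haveILetI false
set_option linter.unusedSectionVars false
set_option backward.isDefEq.respectTransparency false
set_option maxHeartbeats 800000
universe u

open CategoryTheory CategoryTheory.Limits AlgebraicGeometry TopologicalSpace Opposite Pretriangulated

attribute [local instance] HasDerivedCategory.standard
attribute [local instance] Classical.decEq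

noncomputable section

namespace GrothLib.PAlg7

variable {A : Type u} [CommRing A] [IsNoetherianRing A] (I : Ideal A) [IsAdicComplete I A] {X : Scheme.{u}}
  [IsNoetherian X] [X.Over (Spec (CommRingCat.of A))] [IsProper (X ↘ Spec (CommRingCat.of A))]
  {h : (FSch.completionAlong X (FFormal7.baseIdeal I X)).IsFormal}
  [PreservesFiniteLimits (FMod7.complMor h).pull]
  {T : DerivedCategory (FSch.ModF (FSch.completionAlong X (FFormal7.baseIdeal I X)) h) ⥤ DCoh.DQCoh X}
  (adj : pLq I h ⊣ T)

theorem locNoeth_compl : (FSch.completionAlong X (FFormal7.baseIdeal I X)).IsLocNoethFormal :=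
  Groth.Agent.S3854.result X _

/-- Ind-coherent modules, as a weak Serre class. -/
theorem cohIn_of_indD {G : DerivedCategory (FSch.ModF (FSch.completionAlong X (FFormal7.baseIdeal I X)) h)}
    (hG : IndD G) : WSerre.cohIn
      (ObjectProperty.ind.{u} fun M : FSch.ModF (FSch.completionAlong X (FFormal7.baseIdeal I X)) h =>
        FSch.IsCohF (FSch.completionAlong X (FFormal7.baseIdeal I X)) h M) G := hG

include adj in
/-- The counit is bijective on maps from inverse images. -/
theorem bijective_comp_counit (E : DCoh.D X) (hE : DCoh.IsQCohD E)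
    (G : DerivedCategory (FSch.ModF (FSch.completionAlong X (FFormal7.baseIdeal I X)) h)) :
    Function.Bijective fun φ : (pLX I h).obj E ⟶ (pLq I h).obj (T.obj G) => φ ≫ adj.counit.app G := by
  obtain ⟨hf, hfa⟩ := full_faithful_pLq I h
  let E₀ : DCoh.DQCoh X := ⟨E, hE⟩
  refine (Function.Bijective.of_comp_iff (fun φ : (pLq I h).obj E₀ ⟶ (pLq I h).obj (T.obj G) => φ ≫ adj.counit.app G)
    (Functor.FullyFaithful.ofFullyFaithful (pLq I h)).homEquiv.bijective).1 ?_
  have e : (fun φ : (pLq I h).obj E₀ ⟶ (pLq I h).obj (T.obj G) => φ ≫ adj.counit.app G) ∘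
      (Functor.FullyFaithful.ofFullyFaithful (pLq I h)).homEquiv = (adj.homEquiv E₀ G).symm := funext fun φ => by
    exact (Adjunction.homEquiv_counit adj E₀ G φ).symm
  exact e ▸ (adj.homEquiv E₀ G).symm.bijective

include adj in
/-- The adjunction sends zero to zero. -/
theorem symm_zero (E : DCoh.DQCoh X)
    (G : DerivedCategory (FSch.ModF (FSch.completionAlong X (FFormal7.baseIdeal I X)) h)) :
    (adj.homEquiv E G).symm 0 = 0 := by
  rw [Adjunction.homEquiv_counit, Functor.map_zero, zero_comp]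

include adj in
/-- The cone of the counit receives no maps from inverse images. -/
theorem eq_zero_cone (G : DerivedCategory (FSch.ModF (FSch.completionAlong X (FFormal7.baseIdeal I X)) h))
    {C : DerivedCategory (FSch.ModF (FSch.completionAlong X (FFormal7.baseIdeal I X)) h)} {g : G ⟶ C}
    {δ : C ⟶ ((pLq I h).obj (T.obj G))⟦(1 : ℤ)⟧} (hT : Triangle.mk (adj.counit.app G) g δ ∈ distTriang _)
    (E : DCoh.D X) (hE : DCoh.IsQCohD E) (φ : (pLX I h).obj E ⟶ C) : φ = 0 := by
  let Y := (pLX I h).obj E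
  have := DerComp.eq_zero_of_bijective_comp _ hT Y (fun n => ?_) 0 ((shiftFunctorZero _ ℤ).hom.app Y ≫ φ)
  · exact (cancel_epi ((shiftFunctorZero _ ℤ).hom.app Y)).1 (this.trans comp_zero.symm)
  · let e : (pLX I h).obj (E⟦n⟧) ≅ Y⟦n⟧ := ((pLX I h).commShiftIso n).app E
    have hb := bijective_comp_counit I adj (E⟦n⟧) (OX.isQCohD_shift hE n) G
    refine ⟨fun a b hab => (cancel_epi e.hom).1 (hb.1 ?_), fun ψ => ?_⟩
    · exact (Category.assoc _ _ _).trans ((congrArg (e.hom ≫ ·) hab).trans (Category.assoc _ _ _).symm)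
    · obtain ⟨a, ha⟩ := hb.2 (e.hom ≫ ψ)
      exact ⟨e.inv ≫ a, (Category.assoc _ _ _).trans ((congrArg (e.inv ≫ ·) ha).trans (by simp [← Category.assoc]))⟩

/-- The inverse image respects degree bounds above. -/
theorem isLE_pLX (E : DCoh.D X) (a : ℤ) [E.IsLE a] : ((pLX I h).obj E).IsLE a := by
  rw [DerivedCategory.isLE_iff]
  intro i hi
  obtain ⟨e⟩ := Tors7.nonempty_hMod_pullD (h := h) E i
  have hz : IsZero (DCoh.HD E i) := DerivedCategory.isZero_of_isLE E a i hi
  exact ((FMod7.complMor h).pull.map_isZero hz).of_iso e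

/-- The inverse image respects degree bounds below. -/
theorem isGE_pLX (E : DCoh.D X) (a : ℤ) [E.IsGE a] : ((pLX I h).obj E).IsGE a := by
  rw [DerivedCategory.isGE_iff]
  intro i hi
  obtain ⟨e⟩ := Tors7.nonempty_hMod_pullD (h := h) E i
  have hz : IsZero (DCoh.HD E i) := DerivedCategory.isZero_of_isGE E a i hi
  exact ((FMod7.complMor h).pull.map_isZero hz).of_iso e

include adj in
/-- The right adjoint respects degree bounds below. -/
theorem isGE_adjoint (G : DerivedCategory (FSch.ModF (FSch.completionAlong X (FFormal7.baseIdeal I X)) h)) (a : ℤ)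
    [G.IsGE a] : (T.obj G).obj.IsGE a := by
  let K := (T.obj G).obj
  let t := DerivedCategory.TStructure.t (C := X.Modules)
  let E := (t.truncLT a).obj K
  have hqK : WSerre.cohIn (OX.qcohP X) K := (T.obj G).property
  have hE : DCoh.IsQCohD E := DerTrunc.cohIn_truncLT (OX.qcohP X) hqK a
  let E₀ : DCoh.DQCoh X := ⟨E, hE⟩
  let ι₀ : E₀ ⟶ T.obj G := ObjectProperty.homMk ((t.truncLTι a).app K)
  haveI : E.IsLE (a - 1) := t.isLE_truncLT_obj K a (a - 1) (by omega)
  haveI : ((pLq I h).obj E₀).IsLE (a - 1) := isLE_pLX I (h := h) E (a - 1)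
  have h0 : ι₀ = 0 := (adj.homEquiv E₀ G).symm.injective
    ((DerivedCategory.TStructure.t.zero_of_isLE_of_isGE _ (a - 1) a (by omega) inferInstance inferInstance).trans
      (DerivedCategory.TStructure.t.zero_of_isLE_of_isGE _ (a - 1) a (by omega) inferInstance inferInstance).symm)
  have h1 : (t.truncLTι a).app K = 0 := congrArg (fun g : E₀ ⟶ T.obj G => g.hom) h0
  rw [DerivedCategory.isGE_iff]
  intro i hi
  haveI := DerTrunc.isIso_homology_truncLTι K a i hi
  refine (IsZero.iff_id_eq_zero _).2 ((cancel_epi ((DerivedCategory.homologyFunctor X.Modules i).map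
    ((t.truncLTι a).app K))).1 ?_)
  rw [h1, Functor.map_zero, zero_comp, zero_comp]

/-- An object bounded below with ind-coherent cohomology receiving no maps from inverse images is zero. -/
theorem isZero_of_isGE_of_orth (C : DerivedCategory (FSch.ModF (FSch.completionAlong X (FFormal7.baseIdeal I X)) h))
    (hC : IndD C) (a : ℤ) [C.IsGE a]
    (horth : ∀ (E : DCoh.D X), DCoh.IsQCohD E → ∀ φ : (pLX I h).obj E ⟶ C, φ = 0) : IsZero C := by
  refine DerComp.isZero_of_homology fun i => ?_
  suffices hall : ∀ (m : ℕ), C.IsGE (a + m) by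
    haveI := hall (i + 1 - a).toNat
    exact DerivedCategory.isZero_of_isGE C (a + (i + 1 - a).toNat) i (by omega)
  intro m
  induction m with
  | zero => simpa using (inferInstance : C.IsGE a)
  | succ m ih =>
    rw [DerivedCategory.isGE_iff]
    intro j hj
    obtain ⟨b, hb⟩ : ∃ b, b = a + m := ⟨_, rfl⟩
    rw [← hb] at ih
    by_cases hjb : j < b
    · exact DerivedCategory.isZero_of_isGE C b j hjb
    obtain rfl : j = b := by omega
    obtain ⟨N, hN, ⟨e⟩⟩ := (FCat7.ind_iff_exists_iso_pull I h rfl _).1 (hC j)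
    let s : DCoh.D X := (DerivedCategory.singleFunctor X.Modules j).obj N
    let es : (pLX I h).obj s ≅ (DerivedCategory.singleFunctor _ j).obj ((FMod7.complMor h).pull.obj N) :=
      ((FMod7.complMor h).pull.mapDerivedCategorySingleFunctor j).app N
    obtain ⟨φ, hφ⟩ := (DerTheta.thetaBij_of_isGE ((FMod7.complMor h).pull.obj N) j C).2 e.hom
    obtain ⟨ψ, rfl⟩ : ∃ ψ, φ = es.inv ≫ ψ := ⟨es.hom ≫ φ, by simp⟩
    rw [horth s (DerTrunc.cohIn_single (OX.qcohP X) hN j) ψ, comp_zero] at hφ
    have h0 : e.hom = 0 := hφ.symm.trans (by simp [SiteDer.theta])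
    exact (IsZero.iff_id_eq_zero _).2 (by rw [← e.inv_hom_id, h0, comp_zero])

include adj in
/-- The counit is an isomorphism on objects bounded below. -/
theorem isIso_counit_of_isGE (G : DerivedCategory (FSch.ModF (FSch.completionAlong X (FFormal7.baseIdeal I X)) h))
    (hG : IndD G) (a : ℤ) [G.IsGE a] : IsIso (adj.counit.app G) := by
  obtain ⟨C, g, δ, hT⟩ := distinguished_cocone_triangle (adj.counit.app G)
  haveI := RpushD7.isWeakSerre_ind (h := h) (locNoeth_compl I)
  refine (Triangle.isZero₃_iff_isIso₁ _ hT).1 ?_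
  haveI := isGE_adjoint I adj G a
  haveI : ((pLq I h).obj (T.obj G)).IsGE a := isGE_pLX I (h := h) (T.obj G).obj a
  have h₁ : IndD ((pLq I h).obj (T.obj G)) := indD_pullD I _ (T.obj G).property
  haveI : C.IsGE (a - 1) := by
    refine DerivedCategory.TStructure.t.isGE₂ _ (rot_of_distTriang _ hT) (a - 1) ?_ ?_
    · exact DerivedCategory.TStructure.t.isGE_of_ge G (a - 1) a (by omega)
    · exact DerivedCategory.TStructure.t.isGE_shift ((pLq I h).obj (T.obj G)) a 1 (a - 1) (by omega)
  exact isZero_of_isGE_of_orth I C (DerTrunc.cohIn_obj₂ _ (rot_of_distTriang _ hT) hG (DerTrunc.cohIn_shift _ h₁ 1))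
    (a - 1) fun E hE φ => eq_zero_cone I adj G hT E hE φ

include adj in
/-- The right adjoint has bounded cohomological dimension. -/
theorem exists_bound_adjoint : ∃ N : ℕ, ∀ (G : DerivedCategory (FSch.ModF (FSch.completionAlong X (FFormal7.baseIdeal I X)) h)),
    IndD G → (∀ q : ℤ, 0 ≤ q → IsZero (SiteCmp.HMod G q)) → ∀ i : ℤ, (N : ℤ) ≤ i → IsZero (DCoh.HD (T.obj G).obj i) := by
  obtain ⟨P, hP, -, hgen'⟩ := OX.hasGen_of_qcqs X ⊥ isCompact_empty
  have hgen : ∀ E : DCoh.D X, DCoh.IsQCohD E → (∀ (n : ℤ) (φ : P⟦n⟧ ⟶ E), φ = 0) → IsZero E := fun E hE h' =>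
    hgen' E hE (OX.isZero_of_support_empty fun q => Set.eq_empty_of_forall_notMem fun x _ => x.2.elim) h'
  obtain ⟨b, hb⟩ := exists_degree (h := h) hP
  have each : ∀ G : DerivedCategory (FSch.ModF (FSch.completionAlong X (FFormal7.baseIdeal I X)) h), IndD G →
      (∀ q : ℤ, 0 ≤ q → IsZero (SiteCmp.HMod G q)) → OX.EvHD Filter.atTop (T.obj G).obj := fun G hG hz => by
    refine (OX.evHom_iff_evHD (Or.inr rfl) hP hgen (T.obj G).property).1 ?_
    refine Filter.eventually_atTop.2 ⟨-b, fun i hi φ => ?_⟩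
    let P₀ : DCoh.DQCoh X := ⟨P⟦-i⟧, OX.isQCohD_shift (OX.isQCohD_of_isPerfect hP) _⟩
    let e : (pLq I h).obj P₀ ≅ _ := ((pLX I h).commShiftIso (-i)).app P
    have h0 : (adj.homEquiv P₀ G).symm (ObjectProperty.homMk φ) = 0 :=
      (cancel_epi e.inv).1 ((hb (-i) G ⟨hG, fun q hq => hz q (by omega)⟩ _).trans comp_zero.symm)
    have h1 : (ObjectProperty.homMk φ : P₀ ⟶ T.obj G) = 0 := (adj.homEquiv P₀ G).symm.injective
      (h0.trans (symm_zero I adj _ _).symm)
    exact congrArg (fun g : P₀ ⟶ T.obj G => g.hom) h1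
  by_contra hne
  push Not at hne
  choose G hG hz i hi hne' using fun n : ULift.{u} ℕ => hne n.down
  haveI : IsGrothendieckAbelian.{u} (FSch.ModF (FSch.completionAlong X (FFormal7.baseIdeal I X)) h) :=
    KInj.isGrothendieckAbelian_sheafOfModules _
  haveI := HoCat.derivedCategory_hasColimitsOfShape
    (C := FSch.ModF (FSch.completionAlong X (FFormal7.baseIdeal I X)) h) (J := ULift.{u} ℕ)
  have hle : (∐ G).IsLE (-1) := CptBdd19.isLE_coproduct G (-1) fun n => by
    rw [DerivedCategory.isLE_iff]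
    exact fun q hq => hz n q (by omega)
  obtain ⟨M, hM⟩ := Filter.eventually_atTop.1 (each (∐ G) (RpushD7.cohIn_ind_sigma (locNoeth_compl I) G hG)
    fun q hq => DerivedCategory.isZero_of_isLE (∐ G) (-1) q (by omega))
  let k : ULift.{u} ℕ := ⟨M.toNat⟩
  let H : DerivedCategory (FSch.ModF (FSch.completionAlong X (FFormal7.baseIdeal I X)) h) ⥤ X.Modules :=
    T ⋙ (DCoh.IsQCohD (X := X)).ι ⋙ DerivedCategory.homologyFunctor X.Modules (i k)
  let π : (∐ G) ⟶ G k := Sigma.desc fun j => if e : j = k then eqToHom (congrArg G e) else 0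
  have hsec : Sigma.ι G k ≫ π = 𝟙 _ := by simp [π]
  refine hne' k ((IsZero.iff_id_eq_zero (H.obj (G k))).2 ?_)
  rw [← H.map_id, ← hsec, H.map_comp]
  have : H.map (Sigma.ι G k) = 0 := (hM (i k) (by have := hi k; have : (k.down : ℤ) = M.toNat := rfl; omega)).eq_of_tgt _ _
  rw [this, zero_comp]

include adj in
/-- The counit is an isomorphism on all objects with ind-coherent cohomology. -/
theorem isIso_counit (G : DerivedCategory (FSch.ModF (FSch.completionAlong X (FFormal7.baseIdeal I X)) h))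
    (hG : IndD G) : IsIso (adj.counit.app G) := by
  obtain ⟨N, hN⟩ := exists_bound_adjoint I adj
  haveI := RpushD7.isWeakSerre_ind (h := h) (locNoeth_compl I)
  obtain ⟨C, g, δ, hT⟩ := distinguished_cocone_triangle (adj.counit.app G)
  refine (Triangle.isZero₃_iff_isIso₁ _ hT).1 ?_
  have hC : IndD C := DerTrunc.cohIn_obj₂ _ (rot_of_distTriang _ hT) hG
    (DerTrunc.cohIn_shift _ (show IndD ((pLq I h).obj (T.obj G)) from indD_pullD I _ (T.obj G).property) 1)
  suffices hall : ∀ C' : DerivedCategory (FSch.ModF (FSch.completionAlong X (FFormal7.baseIdeal I X)) h), IndD C' →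
      (∀ (E : DCoh.D X), DCoh.IsQCohD E → ∀ φ : (pLX I h).obj E ⟶ C', φ = 0) → IsZero (SiteCmp.HMod C' N) by
    refine DerComp.isZero_of_homology fun i => ?_
    refine (hall (C⟦i - N⟧) (DerTrunc.cohIn_shift _ hC _) fun E hE φ => ?_).of_iso
      (((DerivedCategory.homologyFunctor _ 0).shiftIso (i - N) N i (by omega)).app C).symm
    let m : ℤ := i - N
    let e : (pLX I h).obj ((E⟦-m⟧)⟦m⟧) ≅ (pLX I h).obj E :=
      (pLX I h).mapIso ((shiftFunctorCompIsoId (DCoh.D X) (-m) m (neg_add_cancel m)).app E)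
    let e' := ((pLX I h).commShiftIso m).app (E⟦-m⟧)
    obtain ⟨χ, hχ⟩ := (shiftFunctor _ m).map_surjective (e'.inv ≫ e.hom ≫ φ)
    rw [eq_zero_cone I adj G hT (E⟦-m⟧) (OX.isQCohD_shift hE _) χ, Functor.map_zero] at hχ
    exact (cancel_epi e.hom).1 ((cancel_epi e'.inv).1 (by rw [← hχ, comp_zero, comp_zero]))
  intro C' hC' horth
  let t := DerivedCategory.TStructure.t (C := FSch.ModF (FSch.completionAlong X (FFormal7.baseIdeal I X)) h)
  let S := (t.triangleLTGE 0).obj C'
  have hS : S ∈ distTriang _ := t.triangleLTGE_distinguished 0 C'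
  let B := (t.truncGE 0).obj C'
  haveI : B.IsGE 0 := inferInstanceAs (t.IsGE ((t.truncGE 0).obj C') 0)
  have hB : IndD B := DerTrunc.cohIn_truncGE _ hC' 0
  have hA' : IndD (((t.truncLT 0).obj C')⟦(1 : ℤ)⟧) := DerTrunc.cohIn_shift _ (DerTrunc.cohIn_truncLT _ hC' 0) 1
  have hz : ∀ q : ℤ, 0 ≤ q → IsZero (SiteCmp.HMod (((t.truncLT 0).obj C')⟦(1 : ℤ)⟧) q) := fun q hq =>
    (DerTrunc.isZero_homology_truncLT C' 0 (1 + q) (by omega)).of_iso
      (((DerivedCategory.homologyFunctor _ 0).shiftIso 1 q (1 + q) rfl).app _)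
  let d : B ⟶ ((t.truncLT 0).obj C')⟦(1 : ℤ)⟧ := S.mor₃
  haveI : Mono (T.map d) := Preadditive.mono_of_cancel_zero _ fun {E} u hu => by
    refine (adj.homEquiv E B).symm.injective ?_
    let v : (pLq I h).obj E ⟶ S.obj₃ := (adj.homEquiv E B).symm u
    have h1 : v ≫ S.mor₃ = 0 := by
      change (adj.homEquiv E B).symm u ≫ d = 0
      rw [← adj.homEquiv_naturality_right_symm, hu]
      exact symm_zero I adj _ _
    obtain ⟨w, hw⟩ := Triangle.coyoneda_exact₃ S hS v h1
    rw [horth E.obj E.property w, zero_comp] at hw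
    exact hw.trans (symm_zero I adj _ _).symm
  haveI := isIso_counit_of_isGE I adj B hB 0
  have hTB : IsZero (DCoh.HD (T.obj B).obj N) := by
    haveI : IsSplitMono (T.map d) := isSplitMono_of_mono _
    let H : DCoh.DQCoh X ⥤ X.Modules :=
      (DCoh.IsQCohD (X := X)).ι ⋙ DerivedCategory.homologyFunctor X.Modules N
    exact IsZero.of_mono (H.map (T.map d)) (hN _ hA' hz N le_rfl)
  have hBN : IsZero (SiteCmp.HMod B N) := by
    obtain ⟨e⟩ := Tors7.nonempty_hMod_pullD (h := h) (T.obj B).obj N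
    exact (((FMod7.complMor h).pull.map_isZero hTB).of_iso e).of_iso
      ((DerivedCategory.homologyFunctor _ N).mapIso (asIso (adj.counit.app B))).symm
  haveI := DerTrunc.isIso_homology_truncGEπ C' 0 N (by omega)
  exact hBN.of_iso (asIso ((DerivedCategory.homologyFunctor _ (N : ℤ)).map ((t.truncGEπ 0).app C')))

end GrothLib.PAlg7
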