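import Groth.Agent.Lib.TriCat.BrownSmall
import Mathlib.CategoryTheory.Preadditive.Yoneda.Limits
import Mathlib.CategoryTheory.Triangulated.Yoneda

/-! # A class closed under sums and cones containing perfect generators is everything -/

universe w v u

open CategoryTheory CategoryTheory.Limits CategoryTheory.Pretriangulated Opposite
open GrothLib.TriCat (res res_comp exists_res_hocolim exists_isHocolim)
open GrothLib.TriCatS

namespace GrothLib.PAlg7

variable {D : Type u} [Category.{max w v} D] [Preadditive D] [HasZeroObject D] [HasShift D ℤ]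
  [∀ n : ℤ, (shiftFunctor D n).Additive] [Pretriangulated D]
  [HasCoproducts.{w} D] [HasColimitsOfShape (Discrete ℕ) D] {ι : Type w} {E : ι → D}
  [∀ k X, Small.{w} (E k ⟶ X)]

/-- A class closed under isomorphisms, sums and cones which contains perfect generators is everything. -/
theorem prop_of_perfectFamily (hs : IsShiftClosedFamily E) (hperf : IsPerfectFamily E)
    (h1 : ∀ X : D, (∀ k (f : E k ⟶ X), f = 0) → IsZero X)
    (P : D → Prop) (hiso : ∀ {A B : D}, (A ≅ B) → P A → P B)
    (hE : ∀ k, P (E k)) (hsum : ∀ (J : Type w) (Z : J → D), (∀ j, P (Z j)) → P (∐ Z))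
    (hcone : ∀ T ∈ distTriang D, P T.obj₁ → P T.obj₂ → P T.obj₃) (X : D) : P X := by
  let H : Dᵒᵖ ⥤ AddCommGrpCat.{max w v} := preadditiveYoneda.obj X
  have : ∀ (κ : Type w), PreservesLimitsOfShape (Discrete κ) H := fun κ =>
    preservesLimitsOfShape_of_equiv (Discrete.equivalence Equiv.ulift.{max w v, w}) _
  have := preservesLimitsOfShape_nat.{w} H
  haveI : ∀ k, Small.{w} (H.obj (op (E k))) := fun k => inferInstanceAs (Small.{w} (E k ⟶ X))
  let W : (Σ k, Shrink.{w} (E k ⟶ X)) → D := fun p => E p.1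
  let x₀ : H.obj (op (∐ W)) := (Sigma.desc fun p : Σ k, Shrink.{w} (E k ⟶ X) => (equivShrink _).symm p.2)
  obtain ⟨K, f, x, e, he, hx, hkill, hT⟩ := exists_killing_sequence (E := E) (H := H) (∐ W) x₀
  have hK : ∀ n, P (K n) := by
    intro n
    induction n with
    | zero => exact hiso e (hsum _ W fun p => hE _)
    | succ n ih =>
      obtain ⟨κ, a, y, z, hyz⟩ := hT n
      exact hcone _ hyz (hsum _ _ fun j => hE _) ih
  obtain ⟨L, i, hL⟩ := exists_isHocolim K f
  obtain ⟨t, ht⟩ := exists_res_hocolim (A := H) hL x hx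
  have hPL : P L := by
    obtain ⟨c, hc⟩ := hL
    have hsumK : P (∐ K) := by
      let K' : ULift.{w} ℕ → D := fun n => K n.down
      let w' : (∐ K') ≅ ∐ K :=
        { hom := Sigma.desc fun n => Sigma.ι K n.down
          inv := Sigma.desc fun n => Sigma.ι K' ⟨n⟩
          hom_inv_id := Sigma.hom_ext _ _ fun n => by simp
          inv_hom_id := Sigma.hom_ext _ _ fun n => by simp [K'] }
      exact hiso w' (hsum _ K' fun n => hK n.down)
    exact hcone _ hc hsumK hsumK
  have hb := bijective_res_hocolim hs hperf x hx (fun k y => ?_) hkill hL t ht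
  · have hi : IsIso (t : L ⟶ X) := isIso_of_bijective_on_family hs h1 (t : L ⟶ X)
      (fun k a ha => (hb k).1 (ha.trans (zero_comp (f := (t : L ⟶ X))).symm)) fun k b => (hb k).2 b
    exact hiso (asIso (t : L ⟶ X)) hPL
  · refine ⟨Sigma.ι W ⟨k, equivShrink _ y⟩ ≫ e.hom, ?_⟩
    rw [res_comp, he]
    exact (Sigma.ι_desc _ _).trans ((equivShrink _).symm_apply_apply y)

end GrothLib.PAlg7
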