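import Groth.Agent.Lib.PAlg7.Compact
import Groth.Agent.Lib.PAlg7.Localizing
import Groth.Agent.Lib.RpushD7.IndClass
import Groth.Agent.Lib.DerComp.Generate
import Groth.Agent.Lib.DerCat.Theta
import Groth.Agent.Lib.DerComp.SiteIdeal
import Groth.Agent.Lib.OX.GeneratorBound

/-!
# The completion functor on the derived category of a proper scheme over a complete base
-/

set_option autoImplicit false
set_option linter.style.haveILetI false
set_option linter.unusedSectionVars false
set_option backward.isDefEq.respectTransparency false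
set_option maxHeartbeats 800000
universe u

open CategoryTheory CategoryTheory.Limits AlgebraicGeometry TopologicalSpace Opposite Pretriangulated

attribute [local instance] HasDerivedCategory.standard
attribute [local instance] Classical.decEq

noncomputable section

namespace GrothLib.PAlg7

open GrothLib.TriCat (FinHom homSum_of)

section Abstract

variable {D : Type*} [Category D] [Preadditive D] {E : Type*} [Category E] [Preadditive E]

/-- The components of a finite decomposition. -/
theorem homSum_proj {ι : Type*} (W : ι → D) [HasCoproduct W] (F : D) (d : DirectSum ι fun i => F ⟶ W i) (j : ι) :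
    PerfAux.homSumToHomCoprod F W d ≫ Sigma.desc (fun i => if e : i = j then eqToHom (congrArg W e) else 0) = d j := by
  induction d using DirectSum.induction_on with
  | zero => simp
  | of k x =>
    rw [homSum_of, Category.assoc, Sigma.ι_desc]
    by_cases e : k = j
    · subst e
      simp
    · rw [dif_neg e, comp_zero, DirectSum.of_eq_of_ne _ _ _ (Ne.symm e)]
  | add c c' ih ih' => rw [map_add, Preadditive.add_comp, ih, ih', DirectSum.add_apply]

/-- Bijectivity on maps passes to direct sums seen finitely. -/
theorem bijAt_coprod (G : D ⥤ E) [G.Additive] {ι : Type*} (W : ι → D) [HasCoproduct W] (F : D)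
    [HasCoproduct fun i => G.obj (W i)] [PreservesColimit (Discrete.functor W) G]
    (hD : FinHom W F) (hE : FinHom (fun i => G.obj (W i)) (G.obj F))
    (h : ∀ i, BijAt G F (W i)) : BijAt G F (∐ W) := by
  constructor
  · intro φ φ' e
    refine sub_eq_zero.1 ?_
    have h0 : G.map (φ - φ') = 0 := by rw [G.map_sub]; exact sub_eq_zero.2 e
    obtain ⟨d, hd⟩ := hD (φ - φ')
    suffices d = 0 by rw [← hd, this, map_zero]
    refine DFinsupp.ext fun j => (h j).1 ?_
    change G.map (d j) = G.map ((0 : DirectSum ι fun i => F ⟶ W i) j)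
    rw [← homSum_proj W F d j, hd, G.map_comp, h0, zero_comp, DirectSum.zero_apply, G.map_zero]
  · intro ψ
    obtain ⟨c, hc⟩ := hE (ψ ≫ inv (sigmaComparison G W))
    suffices hall : ∀ c, ∃ d, G.map (PerfAux.homSumToHomCoprod F W d) =
        PerfAux.homSumToHomCoprod (G.obj F) (fun i => G.obj (W i)) c ≫ sigmaComparison G W by
      obtain ⟨d, hd⟩ := hall c
      exact ⟨_, hd.trans (by rw [hc, Category.assoc, IsIso.inv_hom_id, Category.comp_id])⟩
    intro c
    induction c using DirectSum.induction_on with
    | zero => exact ⟨0, by rw [map_zero, map_zero, G.map_zero, zero_comp]⟩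
    | of k x =>
      obtain ⟨y, hy⟩ := (h k).2 x
      change G.map y = x at hy
      refine ⟨DirectSum.of (fun i => F ⟶ W i) k y, ?_⟩
      rw [homSum_of, homSum_of, G.map_comp, hy, Category.assoc, ι_comp_sigmaComparison]
    | add c c' ih ih' =>
      obtain ⟨d, hd⟩ := ih
      obtain ⟨d', hd'⟩ := ih'
      exact ⟨d + d', by rw [map_add, map_add, G.map_add, hd, hd', Preadditive.add_comp]⟩

end Abstract

variable {A : Type u} [CommRing A] [IsNoetherianRing A] (I : Ideal A) [IsAdicComplete I A] {X : Scheme.{u}}
  [IsNoetherian X] [X.Over (Spec (CommRingCat.of A))] [IsProper (X ↘ Spec (CommRingCat.of A))]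
  (h : (FSch.completionAlong X (FFormal7.baseIdeal I X)).IsFormal)
  [PreservesFiniteLimits (FMod7.complMor h).pull]

omit [IsNoetherianRing A] [IsAdicComplete I A] [IsProper (X ↘ Spec (CommRingCat.of A))] in
/-- The inverse image, out of `D(O_X)`. -/
abbrev pLX : DCoh.D X ⥤ DerivedCategory (FSch.ModF (FSch.completionAlong X (FFormal7.baseIdeal I X)) h) :=
  pL h

/-- The inverse image, out of `D_qc(O_X)`. -/
abbrev pLq : DCoh.DQCoh X ⥤ DerivedCategory (FSch.ModF (FSch.completionAlong X (FFormal7.baseIdeal I X)) h) :=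
  (DCoh.IsQCohD (X := X)).ι ⋙ pLX I h

instance preservesColimitsOfShape_pLX (κ : Type u) : PreservesColimitsOfShape (Discrete κ) (pLX I h) :=
  (Tors7.dAdj (h := h)).leftAdjoint_preservesColimits.preservesColimitsOfShape

instance preservesColimitsOfShape_pLq (κ : Type u) : PreservesColimitsOfShape (Discrete κ) (pLq I h) :=
  have := preservesColimitOfShape_of_createsColimitsOfShape_and_hasColimitsOfShape
    (F := (DCoh.IsQCohD (X := X)).ι) (J := Discrete κ)
  inferInstance

/-- The inverse image has a right adjoint on `D_qc`. -/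
theorem isLeftAdjoint_pLq : (pLq I h).IsLeftAdjoint := by
  haveI : IsGrothendieckAbelian.{u} (FSch.ModF (FSch.completionAlong X (FFormal7.baseIdeal I X)) h) :=
    KInj.isGrothendieckAbelian_sheafOfModules _
  haveI : ∀ A B : DerivedCategory (FSch.ModF (FSch.completionAlong X (FFormal7.baseIdeal I X)) h),
      Small.{u} (A ⟶ B) := DerComp.small_hom
  exact OX.isLeftAdjoint_DQCoh _

/-- Bijectivity from perfect objects into objects with quasi-coherent cohomology. -/
theorem bijAll_perfect_qc {P : DCoh.D X} (hP : DCoh.IsPerfect P) (K : DCoh.DQCoh X) :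
    BijAll (pLX I h) P K.obj := by
  obtain ⟨E, hs, hperf, h1, hE⟩ := OX.exists_perfectFamily (X := X)
  haveI : ∀ k Y, Small.{u} (E k ⟶ Y) := fun k Y => inferInstance
  refine prop_of_perfectFamily.{u, u + 1} hs hperf h1 (fun K : DCoh.DQCoh X => BijAll (pLX I h) P K.obj)
    (fun e hK => hK.of_iso' ((DCoh.IsQCohD (X := X)).ι.mapIso e)) (fun k => bijAll_perfect I hP (hE k))
    (fun J Z hZ n => ?_) (fun T hT h₁ h₂ => ?_) K
  · haveI := preservesColimitOfShape_of_createsColimitsOfShape_and_hasColimitsOfShape
      (F := (DCoh.IsQCohD (X := X)).ι) (J := Discrete J)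
    let W : J → DCoh.D X := fun j => (Z j).obj⟦n⟧
    haveI := HoCat.derivedCategory_hasColimitsOfShape (C := X.Modules) (J := J)
    haveI := HoCat.derivedCategory_hasColimitsOfShape
      (C := FSch.ModF (FSch.completionAlong X (FFormal7.baseIdeal I X)) h) (J := J)
    have hW : BijAt (pLX I h) P (∐ W) := by
      refine bijAt_coprod (pLX I h) W P (OX.finHom_of_isPerfect hP W fun j => OX.isQCohD_shift (Z j).property n) ?_
        fun j => hZ j n
      exact (finHom_perfect (h := h) hP).finHom _ fun j => indD_pullD I (W j) (OX.isQCohD_shift (Z j).property n)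
    exact hW.of_iso _ _ (((PreservesCoproduct.iso (shiftFunctor (DCoh.D X) n) fun j => (Z j).obj).symm) ≪≫
      (shiftFunctor (DCoh.D X) n).mapIso (PreservesCoproduct.iso (DCoh.IsQCohD (X := X)).ι Z).symm)
  · exact bijAll_obj₃ ((DCoh.IsQCohD (X := X)).ι.map_distinguished T hT) h₁ h₂

/-- **The inverse image is fully faithful on `D_qc`.** -/
theorem full_faithful_pLq : (pLq I h).Full ∧ (pLq I h).Faithful := by
  haveI := isLeftAdjoint_pLq I h
  let adj := Adjunction.ofIsLeftAdjoint (pLq I h)
  obtain ⟨E, hs, hperf, h1, hE⟩ := OX.exists_perfectFamily (X := X)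
  have hb : ∀ k (K : DCoh.DQCoh X), Function.Bijective fun φ : E k ⟶ K => φ ≫ adj.unit.app K := fun k K => by
    have h0 : Function.Bijective fun φ : E k ⟶ K => (pLq I h).map φ := by
      have hK := ((bijAll_perfect_qc I h (hE k) K) 0).of_iso (pLX I h) _ ((shiftFunctorZero (DCoh.D X) ℤ).app K.obj)
      exact hK.comp (ObjectProperty.fullyFaithfulι _).homEquiv.bijective
    have e : (fun φ : E k ⟶ K => φ ≫ adj.unit.app K) =
        adj.homEquiv (E k) ((pLq I h).obj K) ∘ fun φ => (pLq I h).map φ := funext fun φ => by
      simp only [Function.comp_apply, Adjunction.homEquiv_unit]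
      exact adj.unit.naturality φ
    rw [e]
    exact (adj.homEquiv _ _).bijective.comp h0
  haveI : ∀ k Y, Small.{u} (E k ⟶ Y) := fun k Y => inferInstance
  haveI : IsIso adj.unit := by
    have : ∀ K, IsIso (adj.unit.app K) := fun K =>
      TriCatS.isIso_of_bijective_on_family hs h1 (adj.unit.app K)
        (fun k a ha => (hb k K).1 (ha.trans zero_comp.symm)) fun k b => (hb k K).2 b
    exact NatIso.isIso_of_isIso_app _
  exact ⟨adj.fullyFaithfulLOfIsIsoUnit.full, adj.fullyFaithfulLOfIsIsoUnit.faithful⟩

/-- Bijectivity on objects with quasi-coherent cohomology. -/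
theorem bijective_pLX (E E' : DCoh.D X) (hE : DCoh.IsQCohD E) (hE' : DCoh.IsQCohD E') :
    Function.Bijective fun φ : E ⟶ E' => (pLX I h).map φ := by
  obtain ⟨hf, hfa⟩ := full_faithful_pLq I h
  let X₁ : DCoh.DQCoh X := ⟨E, hE⟩
  let X₂ : DCoh.DQCoh X := ⟨E', hE'⟩
  exact (Functor.FullyFaithful.ofFullyFaithful (pLq I h)).homEquiv.bijective.comp
    ((ObjectProperty.fullyFaithfulι _).homEquiv (X := X₁) (Y := X₂)).symm.bijective

end GrothLib.PAlg7
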