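import Groth.Agent.Lib.FCat7.PullReal
import Groth.Agent.Lib.RpushD7.Classes
import Groth.Prelude.Def_FSch6
import Mathlib.CategoryTheory.ObjectProperty.Ind

/-!
# An isomorphism of formal systems gives an equivalence of module categories
-/

set_option autoImplicit false
set_option linter.style.haveILetI false
set_option linter.unusedSectionVars false
set_option backward.isDefEq.respectTransparency false
universe u

open CategoryTheory CategoryTheory.Limits AlgebraicGeometry TopologicalSpace Opposite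

noncomputable section

namespace GrothLib.PAlg7

variable {𝔛 𝔜 : FSch.Sys.{u}} (u' : 𝔛 ≅ 𝔜) (h : 𝔛.IsFormal) (h' : 𝔜.IsFormal)

/-- Direct images along inverse isomorphisms cancel. -/
def pushFCancel : FSch.pushF u'.hom h h' ⋙ FSch.pushF u'.inv h' h ≅ 𝟭 (FSch.ModF 𝔛 h) :=
  FSch.pushSq u'.hom u'.inv (𝟙 𝔛) (𝟙 𝔛) (by simp) h h' h h ≪≫
    Functor.isoWhiskerRight (FSch.pushFId 𝔛 h) _ ≪≫ Functor.leftUnitor _ ≪≫ FSch.pushFId 𝔛 h

/-- The equivalence of module categories. -/
def sysEquiv : FSch.ModF 𝔛 h ≌ FSch.ModF 𝔜 h' :=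
  CategoryTheory.Equivalence.mk (FSch.pushF u'.hom h h') (FSch.pushF u'.inv h' h) (pushFCancel u' h h').symm
    (pushFCancel u'.symm h' h)

/-- Direct image along an isomorphism preserves coherence. -/
theorem isCohF_pushF_iso (hN : 𝔜.IsLocNoethFormal) (M : FSch.ModF 𝔛 h) (hM : FSch.IsCohF 𝔛 h M) :
    FSch.IsCohF 𝔜 h' ((sysEquiv u' h h').functor.obj M) := by
  let f := u'.inv
  haveI : FSch.IsCohF 𝔜 h' ((FSch.pullF f h' h).obj M) :=
    FMod7.isFinitePresentation_pull (FSch.homMor f h' h) (fun _ _ _ hx => hx) (fun {ι} U hU => by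
      refine eq_top_iff.2 fun x _ => Opens.mem_iSup.2 ?_
      have h0 : (f : FSch.Hom 𝔜 𝔛).app 0 x ∈ iSup U := by rw [hU]; trivial
      obtain ⟨i, hi⟩ := Opens.mem_iSup.1 h0
      exact ⟨i, hi⟩) _ hM
  let e : FSch.pullF f h' h ≅ (sysEquiv u' h h').functor :=
    (FSch.homMor f h' h).adj.leftAdjointUniq (sysEquiv u' h h').toAdjunction
  exact RpushD7.isCohF_of_iso' hN (e.app M)

/-- Direct image along an isomorphism preserves ind-coherence. -/
theorem ind_pushF_iso (hN : 𝔜.IsLocNoethFormal) (M : FSch.ModF 𝔛 h)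
    (hM : (ObjectProperty.ind.{u} fun G : FSch.ModF 𝔛 h => FSch.IsCohF 𝔛 h G) M) :
    (ObjectProperty.ind.{u} fun G : FSch.ModF 𝔜 h' => FSch.IsCohF 𝔜 h' G) ((sysEquiv u' h h').functor.obj M) := by
  obtain ⟨K, _, _, pres, hp⟩ := hM
  exact ⟨K, inferInstance, inferInstance,
    { diag := pres.diag ⋙ (sysEquiv u' h h').functor
      ι := ((sysEquiv u' h h').functor.mapCocone ⟨M, pres.ι⟩).ι
      isColimit := isColimitOfPreserves (sysEquiv u' h h').functor pres.isColimit },
    fun k => isCohF_pushF_iso u' h h' hN _ (hp k)⟩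

end GrothLib.PAlg7
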