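import Groth.Agent.Lib.PAlg7.Result
import Groth.Agent.Lib.PAlg7.Complete
import Groth.Agent.Lib.PAlg7.SysEquiv
import Groth.Agent.Lib.OX.AffineHomotopy
import Groth.Agent.Lib.QCohCat20.Category
import Groth.Agent.S1104
import Groth.Agent.S13345

/-!
# The derived category of ind-coherent modules on a properly algebraic formal scheme
-/

set_option autoImplicit false
set_option linter.style.haveILetI false
set_option linter.unusedSectionVars false
set_option backward.isDefEq.respectTransparency false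
set_option maxHeartbeats 1600000
universe u

open CategoryTheory CategoryTheory.Limits AlgebraicGeometry TopologicalSpace Opposite Pretriangulated

attribute [local instance] HasDerivedCategory.standard

noncomputable section

namespace GrothLib.PAlg7

section Abstract

variable {A B C D : Type*} [Category A] [Category B] [Category C] [Category D]

/-- Full faithfulness descends along an equivalence. -/
theorem ff_of_equivalence_comp (K : A ⥤ B) (L : B ⥤ C) [K.IsEquivalence] [(K ⋙ L).Full] [(K ⋙ L).Faithful] :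
    L.Full ∧ L.Faithful := by
  let e : K.inv ⋙ (K ⋙ L) ≅ L := (Functor.associator _ _ _).symm ≪≫
    Functor.isoWhiskerRight K.asEquivalence.counitIso L ≪≫ Functor.leftUnitor L
  exact ⟨Functor.Full.of_iso e, Functor.Faithful.of_iso e⟩

end Abstract

variable {B : Type u} [CommRing B] [IsNoetherianRing B] (J : Ideal B) {X : Scheme.{u}}
  (f : X ⟶ Spec (CommRingCat.of B)) [IsProper f]

local instance {Y : Scheme.{u}} : ObjectProperty.ContainsZero (fun M : Y.Modules => Coh.IsQCoh M) :=
  inferInstanceAs (QCohCat.isQCoh Y).ContainsZero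
local instance {Y : Scheme.{u}} : ObjectProperty.IsClosedUnderKernels (fun M : Y.Modules => Coh.IsQCoh M) :=
  inferInstanceAs (QCohCat.isQCoh Y).IsClosedUnderKernels
local instance {Y : Scheme.{u}} : ObjectProperty.IsClosedUnderCokernels (fun M : Y.Modules => Coh.IsQCoh M) :=
  inferInstanceAs (QCohCat.isQCoh Y).IsClosedUnderCokernels
local instance {Y : Scheme.{u}} : ObjectProperty.IsClosedUnderFiniteProducts (fun M : Y.Modules => Coh.IsQCoh M) :=
  inferInstanceAs (QCohCat.isQCoh Y).IsClosedUnderFiniteProducts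
local instance {Y : Scheme.{u}} : PreservesFiniteLimits (ObjectProperty.ι (fun M : Y.Modules => Coh.IsQCoh M)) :=
  QCohCat20.preservesFiniteLimits_ι (X := Y)
local instance {Y : Scheme.{u}} : PreservesFiniteColimits (ObjectProperty.ι (fun M : Y.Modules => Coh.IsQCoh M)) :=
  haveI : ∀ {M N : QCohCat.QCoh Y} (g : M ⟶ N), PreservesColimit (parallelPair g 0) (QCohCat.isQCoh Y).ι :=
    fun {M N} g => (QCohCat.isQCoh Y).preservesCokernels_ι g
  Functor.preservesFiniteColimits_of_preservesCokernels (QCohCat.isQCoh Y).ι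

/-- **The derived category of ind-coherent modules on a properly algebraic formal scheme.** -/
theorem ind_mapDerived_properlyAlgebraic (hX : (FSch.completionAlong X ((FSch.idealSpec B J).comap f)).IsFormal)
    (P : ObjectProperty (FSch.ModF (FSch.completionAlong X ((FSch.idealSpec B J).comap f)) hX))
    (hP : P = ObjectProperty.ind.{u} fun G : FSch.ModF (FSch.completionAlong X ((FSch.idealSpec B J).comap f)) hX =>
      FSch.IsCohF (FSch.completionAlong X ((FSch.idealSpec B J).comap f)) hX G)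
    [P.ContainsZero] [P.IsClosedUnderKernels] [P.IsClosedUnderCokernels] [P.IsClosedUnderFiniteProducts]
    [PreservesFiniteLimits P.ι] [PreservesFiniteColimits P.ι] :
    P.ι.mapDerivedCategory.Full ∧ P.ι.mapDerivedCategory.Faithful ∧
      ∀ G, P.ι.mapDerivedCategory.essImage G ↔ ∀ i : ℤ, P (SiteCmp.HMod G i) := by
  subst hP
  letI : X.Over (Spec (CommRingCat.of B)) := ⟨f⟩
  haveI : IsProper (X ↘ Spec (CommRingCat.of B)) := ‹IsProper f›
  haveI : IsNoetherian X := FCat7.isNoetherian_base B X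
  let A := Bhat J
  let I := Jhat J
  haveI : IsAdicComplete I A := isAdicComplete_Jhat J
  let X' := Xhat J f
  letI : X'.Over (Spec (CommRingCat.of A)) := ⟨fhat J f⟩
  haveI : IsProper (X' ↘ Spec (CommRingCat.of A)) := inferInstanceAs (IsProper (pullback.snd _ _))
  haveI : IsNoetherian X' := FCat7.isNoetherian_base A X'
  let 𝔛 := FSch.completionAlong X ((FSch.idealSpec B J).comap f)
  let 𝔛' := FSch.completionAlong X' (FFormal7.baseIdeal I X')
  have hN : 𝔛.IsLocNoethFormal := Groth.Agent.S3854.result X _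
  have hN' : 𝔛'.IsLocNoethFormal := Groth.Agent.S3854.result X' _
  let h' : (FSch.completionAlong X' (FFormal7.baseIdeal I X')).IsFormal := hN'.1
  haveI : PreservesFiniteLimits (FMod7.complMor h').pull := Groth.Agent.S13345.result X' _ h'
  obtain ⟨u'⟩ : Nonempty (𝔛' ≅ 𝔛) := nonempty_sysIso J f
  let E := sysEquiv u' h' hX
  let κ : X'.Modules ⥤ FSch.ModF 𝔛' h' := (FMod7.complMor h').pull
  haveI : κ.IsLeftAdjoint := (FMod7.complMor h').adj.isLeftAdjoint
  haveI : PreservesFiniteLimits κ := inferInstanceAs (PreservesFiniteLimits (FMod7.complMor h').pull)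
  haveI : PreservesFiniteColimits κ := inferInstance
  haveI : κ.Additive := Functor.additive_of_preserves_binary_products κ
  haveI : E.functor.Additive := Functor.additive_of_preserves_binary_products E.functor
  haveI : E.inverse.Additive := Functor.additive_of_preserves_binary_products E.inverse
  let F : X'.Modules ⥤ FSch.ModF 𝔛 hX := κ ⋙ E.functor
  let Pi : ObjectProperty (FSch.ModF 𝔛 hX) :=
    ObjectProperty.ind.{u} fun G : FSch.ModF 𝔛 hX => FSch.IsCohF 𝔛 hX G
  let ιQ := ObjectProperty.ι (fun M : X'.Modules => Coh.IsQCoh M)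
  have hF : ∀ M, Pi ((ιQ ⋙ F).obj M) := fun M =>
    ind_pushF_iso u' h' hX hN _ ((FCat7.ind_iff_exists_iso_pull I h' rfl _).2 ⟨M.obj, M.property, ⟨Iso.refl _⟩⟩)
  let K := Pi.lift (ιQ ⋙ F) hF
  have hb : ∀ M N : ObjectProperty.FullSubcategory (fun M : X'.Modules => Coh.IsQCoh M),
      Function.Bijective fun φ : M ⟶ N => (ιQ ⋙ F).map φ := fun M N => by
    haveI : M.obj.IsQuasicoherent := M.property
    haveI : N.obj.IsQuasicoherent := N.property
    exact E.fullyFaithfulFunctor.homEquiv.bijective.comp ((FCat7.pull_bijective_qcoh I h' rfl M.obj N.obj).comp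
      ((ObjectProperty.fullyFaithfulι _).homEquiv (X := M) (Y := N)).bijective)
  haveI : (ιQ ⋙ F).Full := ⟨fun {M N} => (hb M N).2⟩
  haveI : (ιQ ⋙ F).Faithful := ⟨fun {M N} x y e => (hb M N).1 e⟩
  haveI : K.Full := Functor.Full.of_comp_faithful_iso (H := ιQ ⋙ F) (Pi.liftCompιIso _ hF)
  haveI : K.Faithful := Functor.Faithful.of_comp_iso (H := ιQ ⋙ F) (Pi.liftCompιIso _ hF)
  haveI : K.EssSurj := ⟨fun G => by
    have hG : (ObjectProperty.ind.{u} fun G : FSch.ModF 𝔛' h' => FSch.IsCohF 𝔛' h' G) (E.inverse.obj G.obj) :=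
      ind_pushF_iso u'.symm hX h' hN' _ G.property
    obtain ⟨M, hM, ⟨e⟩⟩ := (FCat7.ind_iff_exists_iso_pull I h' rfl _).1 hG
    exact ⟨⟨M, hM⟩, ⟨Pi.isoMk (E.functor.mapIso e ≪≫ E.counitIso.app G.obj)⟩⟩⟩
  haveI : K.IsEquivalence := { }
  let Ke := K.asEquivalence
  haveI : K.Additive := Functor.additive_of_preserves_binary_products K
  haveI : Ke.functor.Additive := inferInstanceAs K.Additive
  haveI : Ke.inverse.Additive := Functor.additive_of_preserves_binary_products Ke.inverse
  haveI : K.mapDerivedCategory.IsEquivalence := AffineHom22.isEquivalence_mapDerived Ke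
  haveI : E.functor.mapDerivedCategory.IsEquivalence := AffineHom22.isEquivalence_mapDerived E
  haveI : F.Additive := inferInstanceAs (κ ⋙ E.functor).Additive
  haveI : PreservesFiniteLimits F := comp_preservesFiniteLimits _ _
  haveI : PreservesFiniteColimits F := comp_preservesFiniteColimits _ _
  haveI : PreservesFiniteLimits (ιQ ⋙ F) := comp_preservesFiniteLimits _ _
  haveI : PreservesFiniteColimits (ιQ ⋙ F) := comp_preservesFiniteColimits _ _
  obtain ⟨hTf, hTfa, hTi⟩ := Groth.Agent.S1104.result X'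
  let c₀ : κ.mapDerivedCategory ⋙ E.functor.mapDerivedCategory ≅ F.mapDerivedCategory :=
    DerCat.mapDerivedCompIso κ E.functor F (Iso.refl _)
  let c₁ : ιQ.mapDerivedCategory ⋙ F.mapDerivedCategory ≅ (ιQ ⋙ F).mapDerivedCategory :=
    DerCat.mapDerivedCompIso ιQ F (ιQ ⋙ F) (Iso.refl _)
  let c₂ : K.mapDerivedCategory ⋙ Pi.ι.mapDerivedCategory ≅ (ιQ ⋙ F).mapDerivedCategory :=
    DerCat.mapDerivedCompIso K Pi.ι (ιQ ⋙ F) (Pi.liftCompιIso _ hF)
  let L₀ : DerivedCategory (ObjectProperty.FullSubcategory (fun M : X'.Modules => Coh.IsQCoh M)) ⥤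
      DerivedCategory (FSch.ModF 𝔛' h') := ιQ.mapDerivedCategory ⋙ κ.mapDerivedCategory
  have hb₀ : ∀ a b, Function.Bijective fun φ : a ⟶ b => L₀.map φ := fun a b => by
    refine (bijective_pLX I h' _ _ ((hTi _).2 ⟨a, ⟨Iso.refl _⟩⟩) ((hTi _).2 ⟨b, ⟨Iso.refl _⟩⟩)).comp
      (f := fun φ : a ⟶ b => ιQ.mapDerivedCategory.map φ) ?_
    exact ⟨fun x y e => hTfa.map_injective e, hTf.map_surjective⟩
  haveI : L₀.Full := ⟨fun {a b} => (hb₀ a b).2⟩
  haveI : L₀.Faithful := ⟨fun {a b} x y e => (hb₀ a b).1 e⟩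
  let c : L₀ ⋙ E.functor.mapDerivedCategory ≅ K.mapDerivedCategory ⋙ Pi.ι.mapDerivedCategory :=
    Functor.associator _ _ _ ≪≫ Functor.isoWhiskerLeft _ c₀ ≪≫ c₁ ≪≫ c₂.symm
  haveI : (K.mapDerivedCategory ⋙ Pi.ι.mapDerivedCategory).Full := Functor.Full.of_iso c
  haveI : (K.mapDerivedCategory ⋙ Pi.ι.mapDerivedCategory).Faithful := Functor.Faithful.of_iso c
  obtain ⟨hfull, hfaith⟩ := ff_of_equivalence_comp K.mapDerivedCategory Pi.ι.mapDerivedCategory
  refine ⟨hfull, hfaith, fun G => ⟨?_, fun hG => ?_⟩⟩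
  · rintro ⟨M, ⟨e⟩⟩ i
    obtain ⟨e'⟩ := DerTrunc.nonempty_homology_mapDerivedCategory Pi.ι M i
    exact RpushD7.ind_of_iso hN (e'.symm ≪≫ (DerivedCategory.homologyFunctor _ i).mapIso e)
      ((DerivedCategory.homologyFunctor Pi.FullSubcategory i).obj M).property
  · let G' := E.inverse.mapDerivedCategory.obj G
    have hG' : IndD (h := h') G' := fun i => by
      obtain ⟨e'⟩ := DerTrunc.nonempty_homology_mapDerivedCategory E.inverse G i
      exact RpushD7.ind_of_iso hN' e'.symm (ind_pushF_iso u'.symm hX h' hN' _ (hG i))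
    obtain ⟨K₀, hK₀, ⟨eK⟩⟩ := (indD_iff_exists_iso I h' G').1 hG'
    obtain ⟨M₀, ⟨eM⟩⟩ := (hTi K₀).1 hK₀
    let d : E.inverse.mapDerivedCategory ⋙ E.functor.mapDerivedCategory ≅ 𝟭 _ :=
      DerCat.mapDerivedCompIso E.inverse E.functor (𝟭 _) E.counitIso ≪≫ AffineHom22.mapDerivedIdIso
    refine ⟨K.mapDerivedCategory.obj M₀, ⟨(c.app M₀).symm ≪≫ E.functor.mapDerivedCategory.mapIso ?_ ≪≫ d.app G⟩⟩
    exact κ.mapDerivedCategory.mapIso eM ≪≫ eK

end GrothLib.PAlg7
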