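import Groth.Agent.Lib.PAlg7.ProperAlg
import Groth.Agent.Lib.RpushD7.RightAdj

/-!
# The right adjoint of a derived direct image out of a properly algebraic formal scheme
-/

set_option autoImplicit false
set_option linter.style.haveILetI false
set_option linter.unusedSectionVars false
set_option backward.isDefEq.respectTransparency false
set_option maxHeartbeats 1600000
universe u

open CategoryTheory CategoryTheory.Limits AlgebraicGeometry TopologicalSpace Opposite Pretriangulated

attribute [local instance] HasDerivedCategory.standard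

noncomputable section

namespace GrothLib.PAlg7

variable {B : Type u} [CommRing B] [IsNoetherianRing B] (J : Ideal B) {X : Scheme.{u}}
  (f : X ⟶ Spec (CommRingCat.of B)) [IsProper f]

/-- **The derived direct image out of a properly algebraic formal scheme has a right adjoint.** -/
theorem isLeftAdjoint_RpushD_properlyAlgebraic
    (hX : (FSch.completionAlong X ((FSch.idealSpec B J).comap f)).IsFormal) (𝔜 : FSch.Sys.{u}) (h𝔜 : 𝔜.IsFormal)
    [CompactSpace (𝔜.X 0)] (g : FSch.completionAlong X ((FSch.idealSpec B J).comap f) ⟶ 𝔜)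
    [SiteCmp.HasRpushD (FSch.homMor g hX h𝔜)] :
    (ObjectProperty.ι (fun G : DerivedCategory (FSch.ModF (FSch.completionAlong X ((FSch.idealSpec B J).comap f)) hX) =>
      IndD (h := hX) G) ⋙ SiteCmp.RpushD (FSch.homMor g hX h𝔜)).IsLeftAdjoint := by
  letI : X.Over (Spec (CommRingCat.of B)) := ⟨f⟩
  haveI : IsProper (X ↘ Spec (CommRingCat.of B)) := ‹IsProper f›
  haveI : IsNoetherian X := FCat7.isNoetherian_base B X
  let A := Bhat J
  let I := Jhat J
  haveI : IsAdicComplete I A := isAdicComplete_Jhat J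
  let X' := Xhat J f
  letI : X'.Over (Spec (CommRingCat.of A)) := ⟨fhat J f⟩
  haveI : IsProper (X' ↘ Spec (CommRingCat.of A)) := inferInstanceAs (IsProper (pullback.snd _ _))
  haveI : IsNoetherian X' := FCat7.isNoetherian_base A X'
  let 𝔛 := FSch.completionAlong X ((FSch.idealSpec B J).comap f)
  let 𝔛' := FSch.completionAlong X' (FFormal7.baseIdeal I X')
  have hN : 𝔛.IsLocNoethFormal := Groth.Agent.S3854.result X _
  have hN' : 𝔛'.IsLocNoethFormal := Groth.Agent.S3854.result X' _
  haveI : CompactSpace ((FSch.completionAlong X ((FSch.idealSpec B J).comap f)).X 0) :=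
    (FSch.completionToX X _ 0).isClosedEmbedding.compactSpace
  let h' : (FSch.completionAlong X' (FFormal7.baseIdeal I X')).IsFormal := hN'.1
  haveI : PreservesFiniteLimits (FMod7.complMor h').pull := Groth.Agent.S13345.result X' _ h'
  obtain ⟨u'⟩ : Nonempty (𝔛' ≅ 𝔛) := nonempty_sysIso J f
  let E := sysEquiv u' h' hX
  haveI : E.functor.Additive := Functor.additive_of_preserves_binary_products E.functor
  haveI : E.inverse.Additive := Functor.additive_of_preserves_binary_products E.inverse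
  let ED := E.functor.mapDerivedCategory
  haveI : ED.IsEquivalence := AffineHom22.isEquivalence_mapDerived E
  obtain ⟨hf, hfa⟩ := full_faithful_pLq I h'
  let Φ : DCoh.DQCoh X' ⥤ DerivedCategory (FSch.ModF 𝔛 hX) := pLq I h' ⋙ ED
  have hΦ : ∀ K, IndD (h := hX) (Φ.obj K) := fun K i => by
    obtain ⟨e⟩ := DerTrunc.nonempty_homology_mapDerivedCategory E.functor ((pLq I h').obj K) i
    exact RpushD7.ind_of_iso hN e.symm (ind_pushF_iso u' h' hX hN _ (indD_pullD I (h₀ := h') _ K.property i))
  let D : ObjectProperty (DerivedCategory (FSch.ModF 𝔛 hX)) := fun G => IndD (h := hX) G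
  let e := D.lift Φ hΦ
  haveI : e.Full := Functor.Full.of_comp_faithful_iso (H := Φ) (D.liftCompιIso Φ hΦ)
  haveI : e.Faithful := Functor.Faithful.of_comp_iso (H := Φ) (D.liftCompιIso Φ hΦ)
  haveI : e.EssSurj := ⟨fun G => by
    let G' := E.inverse.mapDerivedCategory.obj G.obj
    have hG' : IndD (h := h') G' := fun i => by
      obtain ⟨e'⟩ := DerTrunc.nonempty_homology_mapDerivedCategory E.inverse G.obj i
      exact RpushD7.ind_of_iso hN' e'.symm (ind_pushF_iso u'.symm hX h' hN' _ (G.property i))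
    obtain ⟨K₀, hK₀, ⟨eK⟩⟩ := (indD_iff_exists_iso I h' G').1 hG'
    let d : E.inverse.mapDerivedCategory ⋙ ED ≅ 𝟭 _ :=
      DerCat.mapDerivedCompIso E.inverse E.functor (𝟭 _) E.counitIso ≪≫ AffineHom22.mapDerivedIdIso
    exact ⟨⟨K₀, hK₀⟩, ⟨D.isoMk (ED.mapIso eK ≪≫ d.app G.obj)⟩⟩⟩
  haveI : e.IsEquivalence := { }
  let R := SiteDer.Rres (FSch.homMor g hX h𝔜)
  haveI : R.IsTriangulated := SiteDer.isTriangulated_res_map (FSch.homMor g hX h𝔜).push
  haveI : IsGrothendieckAbelian.{u} (FSch.ModF 𝔛 hX) := KInj.isGrothendieckAbelian_sheafOfModules _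
  haveI : IsGrothendieckAbelian.{u} (FSch.ModF 𝔜 h𝔜) := KInj.isGrothendieckAbelian_sheafOfModules _
  haveI : ∀ (κ : Type u), PreservesColimitsOfShape (Discrete κ) ED := fun κ => inferInstance
  haveI : ∀ (κ : Type u), PreservesColimitsOfShape (Discrete κ) (Φ ⋙ R) := fun κ =>
    ⟨fun {K} => by
      let T : κ → DerivedCategory (FSch.ModF 𝔛 hX) := fun a => Φ.obj (K.obj ⟨a⟩)
      haveI := HoCat.derivedCategory_hasColimitsOfShape (C := FSch.ModF 𝔛 hX) (J := κ)
      haveI := HoCat.derivedCategory_hasColimitsOfShape (C := FSch.ModF 𝔜 h𝔜) (J := κ)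
      haveI : IsIso (sigmaComparison R T) := RpushD7.isIso_RpushD_coprod (h' := h𝔜) g hN T fun a => hΦ (K.obj ⟨a⟩)
      haveI : PreservesColimit (Discrete.functor T) R := PreservesCoproduct.of_iso_comparison R T
      haveI : PreservesColimit (K ⋙ Φ) R :=
        preservesColimit_of_iso_diagram R (Discrete.natIso fun a => Iso.refl _ : Discrete.functor T ≅ K ⋙ Φ)
      infer_instance⟩
  haveI : ∀ A B : DerivedCategory (FSch.ModF 𝔜 h𝔜), Small.{u} (A ⟶ B) := DerComp.small_hom
  haveI : (Φ ⋙ R).IsLeftAdjoint := OX.isLeftAdjoint_DQCoh _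
  haveI : (Φ ⋙ SiteCmp.RpushD (FSch.homMor g hX h𝔜)).IsLeftAdjoint :=
    Functor.isLeftAdjoint_of_iso (Functor.isoWhiskerLeft Φ (SiteDer.rpushDIso (FSch.homMor g hX h𝔜)).symm)
  haveI : (e ⋙ (D.ι ⋙ SiteCmp.RpushD (FSch.homMor g hX h𝔜))).IsLeftAdjoint :=
    Functor.isLeftAdjoint_of_iso
      (show Φ ⋙ SiteCmp.RpushD (FSch.homMor g hX h𝔜) ≅ _ from
        Functor.isoWhiskerRight (D.liftCompιIso Φ hΦ).symm _ ≪≫ Functor.associator _ _ _)
  exact (Functor.isLeftAdjoint_comp_iff_right e _).1 inferInstance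

end GrothLib.PAlg7
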