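import Groth.Agent.Lib.PAlg7.Ess

/-!
# Inverse image to the completion: full faithfulness and essential image
-/

set_option autoImplicit false
set_option linter.style.haveILetI false
set_option linter.unusedSectionVars false
set_option backward.isDefEq.respectTransparency false
set_option maxHeartbeats 800000
universe u

open CategoryTheory CategoryTheory.Limits AlgebraicGeometry TopologicalSpace Opposite Pretriangulated

attribute [local instance] HasDerivedCategory.standard

noncomputable section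

namespace GrothLib.PAlg7

variable {A : Type u} [CommRing A] [IsNoetherianRing A] (I : Ideal A) [IsAdicComplete I A] {X : Scheme.{u}}
  [IsNoetherian X] [X.Over (Spec (CommRingCat.of A))] [IsProper (X ↘ Spec (CommRingCat.of A))]
  (h : (FSch.completionAlong X (FFormal7.baseIdeal I X)).IsFormal)
  [PreservesFiniteLimits (FMod7.complMor h).pull]

/-- The essential image of the inverse image on `D_qc` consists of the complexes with ind-coherent cohomology. -/
theorem indD_iff_exists_iso (G : DerivedCategory (FSch.ModF (FSch.completionAlong X (FFormal7.baseIdeal I X)) h)) :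
    IndD G ↔ ∃ E : DCoh.D X, DCoh.IsQCohD E ∧ Nonempty ((pLX I h).obj E ≅ G) := by
  refine ⟨fun hG => ?_, fun ⟨E, hE, ⟨e⟩⟩ => ?_⟩
  · haveI := isLeftAdjoint_pLq I h
    let adj := Adjunction.ofIsLeftAdjoint (pLq I h)
    haveI := isIso_counit I adj G hG
    exact ⟨_, ((pLq I h).rightAdjoint.obj G).property, ⟨asIso (adj.counit.app G)⟩⟩
  · haveI := RpushD7.isWeakSerre_ind (h := h) (locNoeth_compl I)
    exact DerTrunc.cohIn_of_iso _ e (show IndD ((pLX I h).obj E) from indD_pullD I E hE)

/-- A coherent module on the completion is the completion of a coherent module. -/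
theorem exists_coh_iso_pull (𝔉 : FSch.ModF (FSch.completionAlong X (FFormal7.baseIdeal I X)) h)
    (hF : FSch.IsCohF (FSch.completionAlong X (FFormal7.baseIdeal I X)) h 𝔉) :
    ∃ M : X.Modules, Coh.IsCoh M ∧ Nonempty ((FMod7.complMor h).pull.obj M ≅ 𝔉) := by
  let hN := locNoeth_compl (X := X) I
  obtain ⟨𝔐, h𝔐, ⟨e⟩⟩ := Groth.Agent.S13335.result _ hN _ hF
  obtain ⟨M, hM, -, ⟨e'⟩⟩ := FFormal7.exists_iso_complMod_supp I _ rfl 𝔐 h𝔐
    (FCat7.properSupp_of_isCoh (K0Sub.isCoh_push (i := FSch.completionToX X _ 0) (h𝔐 0)))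
  haveI := FMod7.isIso_comparison h M hN hM (FMod7.isCoh_complMod hM)
  exact ⟨M, hM, ⟨asIso (FMod7.comparison h M) ≪≫
    { hom := FSch.ModSys.realModMap h e'.inv
      inv := FSch.ModSys.realModMap h e'.hom
      hom_inv_id := by rw [← FMod7.realModMap_comp, Iso.inv_hom_id, FMod7.realModMap_id]
      inv_hom_id := by rw [← FMod7.realModMap_comp, Iso.hom_inv_id, FMod7.realModMap_id] } ≪≫ e.symm⟩⟩

/-- Completion reflects isomorphy of quasi-coherent modules. -/
theorem nonempty_iso_of_pull (G H : X.Modules) [G.IsQuasicoherent] [H.IsQuasicoherent]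
    (e : (FMod7.complMor h).pull.obj G ≅ (FMod7.complMor h).pull.obj H) : Nonempty (G ≅ H) := by
  let F : X.Modules ⥤ FSch.ModF (FSch.completionAlong X (FFormal7.baseIdeal I X)) h := (FMod7.complMor h).pull
  obtain ⟨a, ha⟩ := (FCat7.pull_bijective_qcoh I h rfl G H).2 e.hom
  obtain ⟨b, hb⟩ := (FCat7.pull_bijective_qcoh I h rfl H G).2 e.inv
  refine ⟨⟨a, b, (FCat7.pull_bijective_qcoh I h rfl G G).1 ?_, (FCat7.pull_bijective_qcoh I h rfl H H).1 ?_⟩⟩
  · change F.map (a ≫ b) = F.map (𝟙 G)
    rw [F.map_comp, F.map_id, show F.map a = e.hom from ha, show F.map b = e.inv from hb, e.hom_inv_id]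
  · change F.map (b ≫ a) = F.map (𝟙 H)
    rw [F.map_comp, F.map_id, show F.map a = e.hom from ha, show F.map b = e.inv from hb, e.inv_hom_id]

/-- The essential image of complexes with coherent cohomology. -/
theorem coh_iff_exists_iso (G : DerivedCategory (FSch.ModF (FSch.completionAlong X (FFormal7.baseIdeal I X)) h)) :
    (∀ i : ℤ, FSch.IsCohF (FSch.completionAlong X (FFormal7.baseIdeal I X)) h (SiteCmp.HMod G i)) ↔
      ∃ E : DCoh.D X, (∀ i : ℤ, Coh.IsCoh (DCoh.HD E i)) ∧ Nonempty ((pLX I h).obj E ≅ G) := by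
  refine ⟨fun hG => ?_, fun ⟨E, hE, ⟨e⟩⟩ i => ?_⟩
  · obtain ⟨E, hE, ⟨e⟩⟩ := (indD_iff_exists_iso I h G).1 fun i => ObjectProperty.le_ind _ _ (hG i)
    refine ⟨E, fun i => ?_, ⟨e⟩⟩
    obtain ⟨M, hM, ⟨eM⟩⟩ := exists_coh_iso_pull I h _ (hG i)
    obtain ⟨e'⟩ := Tors7.nonempty_hMod_pullD (h := h) E i
    haveI := hE i
    haveI := hM.1
    obtain ⟨j⟩ := nonempty_iso_of_pull I h (DCoh.HD E i) M
      (e'.symm ≪≫ (DerivedCategory.homologyFunctor _ i).mapIso e ≪≫ eM.symm)
    exact QCoh.isCoh_of_iso j.symm hM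
  · obtain ⟨e'⟩ := Tors7.nonempty_hMod_pullD (h := h) E i
    haveI : FSch.IsCohF (FSch.completionAlong X (FFormal7.baseIdeal I X)) h
        ((FMod7.complMor h).pull.obj (SiteCmp.HMod E i)) := FMod7.isCohF_complMor_pull h (DCoh.HD E i) (hE i)
    exact RpushD7.isCohF_of_iso' (locNoeth_compl (X := X) I) (e'.symm ≪≫ (DerivedCategory.homologyFunctor _ i).mapIso e)

end GrothLib.PAlg7
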