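import Groth.Agent.Lib.Tors7.Derived
import Groth.Agent.Lib.DerComp.GlobalGen

/-!
# Global sections acting on the derived categories of a scheme and of its completion
-/

set_option autoImplicit false
set_option linter.style.haveILetI false
set_option linter.unusedSectionVars false
set_option backward.isDefEq.respectTransparency false
universe u

open CategoryTheory CategoryTheory.Limits AlgebraicGeometry TopologicalSpace Opposite

attribute [local instance] HasDerivedCategory.standard

noncomputable section

namespace GrothLib.PAlg7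

section General

variable {R R' : Type*} [CommRing R] [CommRing R'] {A B : Type*} [Category A] [Category B] [Abelian A] [Abelian B]
  [Linear R A] [Linear R' B] [HasDerivedCategory A] [HasDerivedCategory B] (F : A ⥤ B) [F.Additive]
  [PreservesFiniteLimits F] [PreservesFiniteColimits F]

/-- An exact functor intertwining two scalars does so on derived categories. -/
theorem mapDerived_map_smul_id (s : R) (t : R') (hF : ∀ M : A, F.map (s • 𝟙 M) = t • 𝟙 (F.obj M))
    (X : DerivedCategory A) : F.mapDerivedCategory.map (s • 𝟙 X) = t • 𝟙 (F.mapDerivedCategory.obj X) := by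
  obtain ⟨K, ⟨e⟩⟩ : ∃ K, Nonempty (DerivedCategory.Q.obj K ≅ X) :=
    ⟨DerivedCategory.Q.objPreimage X, ⟨DerivedCategory.Q.objObjPreimageIso X⟩⟩
  let G := F.mapDerivedCategory
  suffices h : G.map (s • 𝟙 (DerivedCategory.Q.obj K)) = t • 𝟙 (G.obj (DerivedCategory.Q.obj K)) by
    rw [← cancel_epi (G.map e.hom), ← G.map_comp, Linear.comp_smul, Category.comp_id, Linear.comp_smul,
      Category.comp_id]
    calc G.map (s • e.hom) = G.map ((s • 𝟙 _) ≫ e.hom) := by rw [Linear.smul_comp, Category.id_comp]
      _ = _ := by rw [G.map_comp, h, Linear.smul_comp, Category.id_comp]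
  let α := F.mapDerivedCategoryFactors.app K
  have hK : (F.mapHomologicalComplex (ComplexShape.up ℤ)).map (s • 𝟙 K) =
      t • 𝟙 ((F.mapHomologicalComplex (ComplexShape.up ℤ)).obj K) := by
    ext i
    exact hF (K.X i)
  have hn := F.mapDerivedCategoryFactors.hom.naturality (s • 𝟙 K)
  simp only [Functor.comp_map, hK, Functor.map_smul, CategoryTheory.Functor.map_id] at hn
  rw [← cancel_mono α.hom, Linear.smul_comp, Category.id_comp]
  exact hn.trans ((Linear.comp_smul _ _ _ _ _ _).trans (congrArg (t • ·) (Category.comp_id _)))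

end General

variable {X : Scheme.{u}} {𝓘 : X.IdealSheafData} (h : (FSch.completionAlong X 𝓘).IsFormal)

/-- The image of a global section of the scheme on the completion. -/
def sharpG (s : _root_.DerComp.GSec X.sheaf) : _root_.DerComp.GSec ((FSch.completionAlong X 𝓘).Osh h) :=
  ⟨fun W => (((FSch.completionAlong X 𝓘).Osh h).obj.map (homOfLE (show W ≤ ((FMod7.complMor h).fn.obj ⊤) from le_top)).op).hom
      (((FMod7.complMor h).sharp.hom.app (op ⊤)).hom (s.1 ⊤)), fun U V g => by
    rw [← CommRingCat.comp_apply, ← Functor.map_comp]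
    rfl⟩

theorem sharpG_fn (s : _root_.DerComp.GSec X.sheaf) (V : X.Opens) :
    (sharpG h s).1 ((FMod7.complMor h).fn.obj V) = ((FMod7.complMor h).sharp.hom.app (op V)).hom (s.1 V) := by
  have e := congrArg (fun φ => φ.hom (s.1 ⊤))
    ((FMod7.complMor h).sharp.hom.naturality (homOfLE (le_top : V ≤ ⊤)).op)
  simp only [CommRingCat.hom_comp, RingHom.comp_apply] at e
  rw [show (X.sheaf.obj.map (homOfLE (le_top : V ≤ ⊤)).op).hom (s.1 ⊤) = s.1 V from s.2 _] at e
  exact e.symm

/-- The direct image intertwines a section and its image. -/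
theorem push_map_smul (s : _root_.DerComp.GSec X.sheaf) (M : FSch.ModF (FSch.completionAlong X 𝓘) h) :
    (FMod7.complMor h).push.map (sharpG h s • 𝟙 M) = s • 𝟙 ((FMod7.complMor h).push.obj M) := by
  rw [_root_.DerComp.smul_def, _root_.DerComp.smul_def, Category.comp_id, Category.comp_id]
  refine SheafOfModules.Hom.ext (PresheafOfModules.hom_ext fun V => ModuleCat.hom_ext (LinearMap.ext fun x => ?_))
  exact congrArg (fun r => r • (show M.val.obj (op ((FMod7.complMor h).fn.obj V.unop)) from x)) (sharpG_fn h s V.unop)

variable [IsLocallyNoetherian X]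

theorem pushD_map_smul (s : _root_.DerComp.GSec X.sheaf) (M : DerivedCategory (FSch.ModF (FSch.completionAlong X 𝓘) h)) :
    (FMod7.complMor h).push.mapDerivedCategory.map (sharpG h s • 𝟙 M) =
      s • 𝟙 ((FMod7.complMor h).push.mapDerivedCategory.obj M) :=
  mapDerived_map_smul_id _ _ _ (push_map_smul h s) M

variable [PreservesFiniteLimits (FMod7.complMor h).pull]

/-- The inverse image intertwines a section and its image. -/
theorem pullD_map_smul (s : _root_.DerComp.GSec X.sheaf) (Y : DerivedCategory (ModSite.Mod X.sheaf)) :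
    (SiteCmp.pullD (FMod7.complMor h)).map (s • 𝟙 Y) = sharpG h s • 𝟙 ((SiteCmp.pullD (FMod7.complMor h)).obj Y) := by
  let adj := Tors7.dAdj (h := h)
  refine (adj.homEquiv _ _).injective ?_
  refine (Adjunction.homEquiv_unit adj _ _ _).trans ((adj.unit.naturality (s • 𝟙 Y)).symm.trans ?_)
  refine Eq.trans ?_ (Adjunction.homEquiv_unit adj _ _ _).symm
  refine ((Linear.smul_comp _ _ _ _ _ _).trans (congrArg (s • ·) ((Category.id_comp _).trans (Category.comp_id _).symm))).trans ?_
  exact (Linear.comp_smul _ _ _ _ _ _).symm.trans (congrArg (adj.unit.app Y ≫ ·) (pushD_map_smul h s _).symm)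

end GrothLib.PAlg7
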